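import Cfsg.Agent.Lib.Solvable.CoprimeMulAction
import Cfsg.Agent.Lib.Solvable.Core

/-!
An automorphism of order dividing three of a group of order prime to three.
-/

set_option autoImplicit false
set_option linter.style.haveILetI false

universe u

namespace CfsgLib.FpfSymThree

variable {G : Type u} [Group G]

/-- The fixed points of an automorphism. -/
def fixSub (φ : MulAut G) : Subgroup G where
  carrier := {g | φ g = g}
  one_mem' := map_one φ
  mul_mem' := fun ha hb => by
    show φ _ = _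
    rw [map_mul, ha, hb]
  inv_mem' := fun ha => by
    show φ _ = _
    rw [map_inv, ha]

theorem mem_fixSub {φ : MulAut G} {g : G} : g ∈ fixSub φ ↔ φ g = g := Iff.rfl

/-- The hypothesis on the automorphism. -/
def IsTri (φ : MulAut G) : Prop := ∀ g, φ (φ (φ g)) = g

theorem IsTri.pow_three {φ : MulAut G} (h : IsTri φ) : φ ^ 3 = 1 := by
  ext g
  show φ (φ (φ g)) = g
  exact h g

theorem IsTri.zpowers_card_dvd {φ : MulAut G} (h : IsTri φ) :
    Nat.card (Subgroup.zpowers φ) ∣ 3 := by
  rw [Nat.card_zpowers]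
  exact orderOf_dvd_of_pow_eq_one h.pow_three

theorem IsTri.coprime_card {φ : MulAut G} (h : IsTri φ) (h3 : ¬ 3 ∣ Nat.card G) :
    (Nat.card (Subgroup.zpowers φ)).Coprime (Nat.card G) :=
  ((Nat.prime_three.coprime_iff_not_dvd).2 h3).coprime_dvd_left h.zpowers_card_dvd

theorem zpowers_smul {φ : MulAut G} (a : Subgroup.zpowers φ) (g : G) :
    a • g = (a : MulAut G) g := rfl

theorem zpowers_apply_mem {φ : MulAut G} {H : Subgroup G} [Finite G]
    (hH : ∀ g ∈ H, φ g ∈ H) (a : Subgroup.zpowers φ) {g : G} (hg : g ∈ H) :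
    (a : MulAut G) g ∈ H := by
  obtain ⟨n, hn⟩ := Submonoid.mem_powers_iff _ _ |>.1
    ((mem_powers_iff_mem_zpowers).2 a.2)
  rw [← hn]
  clear hn
  induction n generalizing g with
  | zero => simpa using hg
  | succ n ih =>
    rw [pow_succ]
    exact ih (hH g hg)

theorem zpowers_apply_fix {φ : MulAut G} [Finite G] (a : Subgroup.zpowers φ) {g : G}
    (hg : φ g = g) : (a : MulAut G) g = g := by
  obtain ⟨n, hn⟩ := Submonoid.mem_powers_iff _ _ |>.1
    ((mem_powers_iff_mem_zpowers).2 a.2)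
  rw [← hn]
  clear hn
  induction n with
  | zero => rfl
  | succ n ih =>
    rw [pow_succ]
    show (φ ^ n) (φ g) = g
    rw [hg, ih]

/-- A coset fixed by the automorphism has a fixed representative. -/
theorem exists_fixed_coset [Finite G] {φ : MulAut G} (hφ : IsTri φ) (h3 : ¬ 3 ∣ Nat.card G)
    {D : Subgroup G} (hD : ∀ d ∈ D, φ d ∈ D) {x : G} (hx : x⁻¹ * φ x ∈ D) :
    ∃ d ∈ D, φ (x * d) = x * d := by
  obtain ⟨d, hd, h⟩ := CfsgLib.Solvable.exists_smul_fixed_mem_coset
    (A := Subgroup.zpowers φ) (K := G) (hφ.coprime_card h3)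
    (Or.inl (Group.isSolvable_of_comm fun a b => mul_comm' a b))
    (fun a d hd => zpowers_apply_mem hD a hd) (x := x) (fun a => by
      obtain ⟨n, hn⟩ := Submonoid.mem_powers_iff _ _ |>.1
        ((mem_powers_iff_mem_zpowers).2 a.2)
      rw [zpowers_smul, ← hn]
      clear hn
      induction n with
      | zero => simp
      | succ n ih =>
        rw [pow_succ]
        show x⁻¹ * (φ ^ n) (φ x) ∈ D
        have hDn : ∀ (m : ℕ) (d : G), d ∈ D → (φ ^ m) d ∈ D := by
          intro m
          induction m with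
          | zero => exact fun d hd => by simpa using hd
          | succ m ihm =>
            intro d hd
            rw [pow_succ]
            exact ihm _ (hD d hd)
        have he : x⁻¹ * (φ ^ n) (φ x) = (x⁻¹ * (φ ^ n) x) * (φ ^ n) (x⁻¹ * φ x) := by
          rw [map_mul, map_inv]
          group
        rw [he]
        exact mul_mem ih (hDn n _ hx))
  exact ⟨d, hd, h ⟨φ, Subgroup.mem_zpowers φ⟩⟩

/-- The automorphism induced on a quotient by an invariant normal subgroup. -/
noncomputable def quotAut [Finite G] (φ : MulAut G) (N : Subgroup G) [N.Normal]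
    (hN : ∀ g ∈ N, φ g ∈ N) : MulAut (G ⧸ N) :=
  QuotientGroup.congr N N φ (Subgroup.eq_of_le_of_card_ge
    (Subgroup.map_le_iff_le_comap.2 hN)
    (Subgroup.card_map_of_injective φ.injective).ge)

@[simp] theorem quotAut_mk [Finite G] (φ : MulAut G) (N : Subgroup G) [N.Normal]
    (hN : ∀ g ∈ N, φ g ∈ N) (g : G) : quotAut φ N hN (g : G ⧸ N) = ((φ g : G) : G ⧸ N) := rfl

theorem quotAut_isTri [Finite G] {φ : MulAut G} (hφ : IsTri φ) (N : Subgroup G) [N.Normal]
    (hN : ∀ g ∈ N, φ g ∈ N) : IsTri (quotAut φ N hN) := by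
  intro y
  induction y using QuotientGroup.induction_on with
  | H g => simp [hφ g]

theorem apply_mem_of_characteristic (φ : MulAut G) (K : Subgroup G) [hK : K.Characteristic] :
    ∀ g ∈ K, φ g ∈ K := fun g hg => by
  rw [← hK.fixed φ] at hg
  exact hg

theorem pPrimeCore_apply_mem (p : ℕ) (φ : MulAut G) :
    ∀ g ∈ Cfsg.pPrimeCore p G, φ g ∈ Cfsg.pPrimeCore p G := by
  haveI := CfsgLib.Solvable.pPrimeCore_characteristic p G
  exact apply_mem_of_characteristic φ _

theorem pCore_apply_mem (p : ℕ) (φ : MulAut G) :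
    ∀ g ∈ Cfsg.pCore p G, φ g ∈ Cfsg.pCore p G := by
  haveI := CfsgLib.Solvable.pCore_characteristic p G
  exact apply_mem_of_characteristic φ _

/-- A fixed point of the quotient lifts. -/
theorem exists_fixed_lift [Finite G] {φ : MulAut G} (hφ : IsTri φ) (h3 : ¬ 3 ∣ Nat.card G)
    (N : Subgroup G) [N.Normal] (hN : ∀ g ∈ N, φ g ∈ N) {y : G ⧸ N}
    (hy : quotAut φ N hN y = y) : ∃ g : G, φ g = g ∧ (g : G ⧸ N) = y := by
  induction y using QuotientGroup.induction_on with
  | H x =>
    rw [quotAut_mk, eq_comm, QuotientGroup.eq] at hy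
    obtain ⟨d, hd, h⟩ := exists_fixed_coset hφ h3 hN hy
    refine ⟨x * d, h, ?_⟩
    rw [QuotientGroup.mk_mul, (QuotientGroup.eq_one_iff d).2 hd, mul_one]

theorem not_three_dvd_quot [Finite G] (h3 : ¬ 3 ∣ Nat.card G) (N : Subgroup G) [N.Normal] :
    ¬ 3 ∣ Nat.card (G ⧸ N) := fun h => h3 (h.trans (Subgroup.card_quotient_dvd_card N))

theorem quot_fix_odd [Finite G] {φ : MulAut G} (hφ : IsTri φ) (h3 : ¬ 3 ∣ Nat.card G)
    (hodd : ∀ g, φ g = g → Odd (orderOf g)) (N : Subgroup G) [N.Normal]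
    (hN : ∀ g ∈ N, φ g ∈ N) (y : G ⧸ N) (hy : quotAut φ N hN y = y) : Odd (orderOf y) := by
  obtain ⟨g, hg, rfl⟩ := exists_fixed_lift hφ h3 N hN hy
  exact Odd.of_dvd_nat (hodd g hg) (orderOf_map_dvd (QuotientGroup.mk' N) g)

end CfsgLib.FpfSymThree
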