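import Cfsg.Agent.Lib.FpfSymThree.Grow

/-!
In a group of order prime to three with a Sylow 2-subgroup of class at most two, fusion of central
elements of the Sylow subgroup is controlled by its normalizer, granted this for the subgroups
containing all maximal elementary abelian subgroups.
-/

set_option autoImplicit false
set_option linter.style.haveILetI false

universe u

namespace CfsgLib.FpfSymThree

open scoped commutatorElement

variable {G : Type u} [Group G] [Finite G]

/-- The automorphisms of `Q` induced from `G` come from the normalizer of `S`. -/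
def IsGood (S Q : Subgroup G) : Prop :=
  Subgroup.normalizer (Q : Set G) ≤ Subgroup.centralizer (Q : Set G) ⊔
    (Subgroup.normalizer (S : Set G) ⊓ Subgroup.normalizer (Q : Set G))

theorem IsMaxElem.subgroupOf {S A Y : Subgroup G} (hA : IsMaxElem S A) (hSY : S ≤ Y) :
    IsMaxElem (S.subgroupOf Y) (A.subgroupOf Y) := by
  refine ⟨fun x hx => hA.1 hx, ⟨fun x hx y hy => Subtype.ext (hA.2.1.1 x hx y hy),
    fun x hx => Subtype.ext (hA.2.1.2 x hx)⟩, fun B hB hBe => ?_⟩
  rw [Nat.card_congr (Subgroup.subgroupOfEquivOfLe (hA.1.trans hSY)).toEquiv,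
    ← Subgroup.card_map_of_injective (f := Y.subtype) Y.subtype_injective]
  refine hA.2.2 _ ?_ ⟨?_, ?_⟩
  · rintro _ ⟨x, hx, rfl⟩
    exact hB hx
  · rintro _ ⟨x, hx, rfl⟩ _ ⟨y, hy, rfl⟩
    exact congrArg Subtype.val (hBe.1 x hx y hy)
  · rintro _ ⟨x, hx, rfl⟩
    exact congrArg Subtype.val (hBe.2 x hx)

theorem normalizer_le_normalizer_centralizer (Q : Subgroup G) :
    Subgroup.normalizer (Q : Set G) ≤
      Subgroup.normalizer ((Subgroup.centralizer (Q : Set G) : Subgroup G) : Set G) := by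
  have key : ∀ g ∈ Subgroup.normalizer (Q : Set G), ∀ c ∈ Subgroup.centralizer (Q : Set G),
      g * c * g⁻¹ ∈ Subgroup.centralizer (Q : Set G) := by
    intro g hg c hc
    refine Subgroup.mem_centralizer_iff.2 fun q hq => ?_
    have h1 : g⁻¹ * q * g ∈ Q := by
      have := (Subgroup.mem_normalizer_iff.1 (inv_mem hg) q).1 hq
      rwa [inv_inv] at this
    calc q * (g * c * g⁻¹) = g * ((g⁻¹ * q * g) * c) * g⁻¹ := by group
      _ = g * (c * (g⁻¹ * q * g)) * g⁻¹ := by rw [Subgroup.mem_centralizer_iff.1 hc _ h1]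
      _ = g * c * g⁻¹ * q := by group
  intro g hg
  rw [Subgroup.mem_normalizer_iff]
  refine fun y => ⟨key g hg y, fun hy => ?_⟩
  have := key g⁻¹ (inv_mem hg) _ hy
  simpa [mul_assoc] using this

/-- All normal subgroups of `S` containing the centre are good. -/
theorem isGood_of_hyp (h3 : ¬ 3 ∣ Nat.card G) (S : Sylow 2 G) (hcl : ClassTwo (S : Subgroup G))
    (hJ : ∀ Q : Subgroup G, Q ≤ S → zSub (S : Subgroup G) ≤ Q →
      (S : Subgroup G) ≤ Subgroup.normalizer (Q : Set G) →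
      (∀ A, IsMaxElem (S : Subgroup G) A → A ≤ Q) → IsGood (S : Subgroup G) Q) :
    ∀ (m : ℕ) (Q : Subgroup G), Nat.card (S : Subgroup G) - Nat.card Q = m → Q ≤ S →
      zSub (S : Subgroup G) ≤ Q → (S : Subgroup G) ≤ Subgroup.normalizer (Q : Set G) →
      IsGood (S : Subgroup G) Q := by
  intro m
  induction m using Nat.strong_induction_on with
  | _ m ih =>
  intro Q hm hQS hZQ hSQ
  by_cases hall : ∀ A, IsMaxElem (S : Subgroup G) A → A ≤ Q
  · exact hJ Q hQS hZQ hSQ hall
  push Not at hall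
  obtain ⟨A, hA, hAQ⟩ := hall
  set Y := Subgroup.normalizer (Q : Set G) with hY
  have hQY : Q ≤ Y := Subgroup.le_normalizer
  haveI : (Q.subgroupOf Y).Normal := Subgroup.normal_subgroupOf_of_le_normalizer le_rfl
  set S' := S.subtype hSQ with hS'
  have hS'c : (S' : Subgroup Y) = (S : Subgroup G).subgroupOf Y := Sylow.coe_subtype _ _
  have hcl' : ClassTwo (S' : Subgroup Y) := by
    rw [hS'c]
    intro a ha b hb c hc
    exact Subtype.ext (hcl _ ha _ hb _ hc).eq
  obtain ⟨Q₁', h1, h2, h3', h4⟩ := exists_grow (G := Y)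
    (fun h => h3 (h.trans (Subgroup.card_subgroup_dvd_card Y))) S' hcl' (Q.subgroupOf Y)
    (fun x hx => by rw [hS'c]; exact hQS hx)
    (fun x hx => by
      rw [hS'c] at hx
      refine hZQ ⟨hx.1, Subgroup.mem_centralizer_iff.2 fun s hs => ?_⟩
      exact congrArg Subtype.val (Subgroup.mem_centralizer_iff.1 hx.2 ⟨s, hSQ hs⟩ hs))
    (A := A.subgroupOf Y) (by rw [hS'c]; exact hA.subgroupOf hSQ)
    (fun h => hAQ fun a ha => h (show (⟨a, hSQ (hA.1 ha)⟩ : Y) ∈ A.subgroupOf Y from ha))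
  rw [hS'c] at h2 h3'
  set Q₁ := Q₁'.map Y.subtype with hQ₁
  have hQ₁S : Q₁ ≤ S := by
    rintro _ ⟨x, hx, rfl⟩
    exact h2 hx
  have hle : Q ≤ Q₁ := fun x hx => ⟨⟨x, hQY hx⟩, h1.le (show (⟨x, hQY hx⟩ : Y) ∈ _ from hx), rfl⟩
  have hne : Q ≠ Q₁ := fun h => h1.not_ge fun x hx => by
    show (x : G) ∈ Q
    rw [h]
    exact ⟨x, hx, rfl⟩
  have hSQ₁ : (S : Subgroup G) ≤ Subgroup.normalizer (Q₁ : Set G) := fun s hs =>
    Subgroup.le_normalizer_map Y.subtype ⟨⟨s, hSQ hs⟩, h3' hs, rfl⟩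
  have hgood := ih (Nat.card (S : Subgroup G) - Nat.card Q₁) (by
    rw [← hm]
    have ha := Subgroup.card_le_of_le hQ₁S
    have hb : Nat.card Q < Nat.card Q₁ :=
      Set.Finite.card_lt_card (Set.toFinite _) (SetLike.coe_ssubset_coe.2 (lt_of_le_of_ne hle hne))
    omega) Q₁ rfl hQ₁S (hZQ.trans hle) hSQ₁
  set C := Subgroup.centralizer (Q : Set G) with hC
  set R := C ⊔ (Subgroup.normalizer ((S : Subgroup G) : Set G) ⊓ Y) with hR
  have hCQ₁ : Subgroup.centralizer (Q₁ : Set G) ≤ C := Subgroup.centralizer_le hle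
  have key : Subgroup.normalizer (Q₁ : Set G) ⊓ Y ≤ R := by
    intro g hg
    obtain ⟨c, hc, n, hn, rfl⟩ : ∃ c ∈ Subgroup.centralizer (Q₁ : Set G),
        ∃ n ∈ Subgroup.normalizer ((S : Subgroup G) : Set G) ⊓
          Subgroup.normalizer (Q₁ : Set G), c * n = g := by
      have h := hgood hg.1
      rw [← SetLike.mem_coe, Subgroup.coe_mul_of_right_le_normalizer_left _ _
        (inf_le_right.trans (normalizer_le_normalizer_centralizer _))] at h
      exact h
    have hcY : c ∈ Y := Subgroup.centralizer_le_normalizer _ (hCQ₁ hc)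
    have hnY : n ∈ Y := by
      have := mul_mem (inv_mem hcY) hg.2
      rwa [inv_mul_cancel_left] at this
    exact mul_mem (Subgroup.mem_sup_left (hCQ₁ hc)) (Subgroup.mem_sup_right ⟨hn.1, hnY⟩)
  show Y ≤ R
  have h5 := congrArg (Subgroup.map Y.subtype) h4
  rw [Subgroup.map_sup, ← MonoidHom.range_eq_map, Subgroup.range_subtype] at h5
  refine h5.ge.trans (sup_le ?_ ?_)
  · rintro _ ⟨x, hx, rfl⟩
    refine Subgroup.mem_sup_left (Subgroup.mem_centralizer_iff.2 fun q hq => ?_)
    exact congrArg Subtype.val (Subgroup.mem_centralizer_iff.1 hx ⟨q, hQY hq⟩ hq)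
  · rintro _ ⟨x, hx, rfl⟩
    exact key ⟨Subgroup.le_normalizer_map Y.subtype ⟨x, hx, rfl⟩, x.2⟩

/-- Fusion of sets of central elements of `S` is controlled by `N(S)`. -/
theorem exists_normalizer_fuse (h3 : ¬ 3 ∣ Nat.card G) (S : Sylow 2 G)
    (hcl : ClassTwo (S : Subgroup G))
    (hJ : ∀ Q : Subgroup G, Q ≤ S → zSub (S : Subgroup G) ≤ Q →
      (S : Subgroup G) ≤ Subgroup.normalizer (Q : Set G) →
      (∀ A, IsMaxElem (S : Subgroup G) A → A ≤ Q) → IsGood (S : Subgroup G) Q)
    (E : Set G) (hE : E ⊆ zSub (S : Subgroup G)) (g : G)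
    (hg : ∀ e ∈ E, g * e * g⁻¹ ∈ (S : Subgroup G)) :
    ∃ n ∈ Subgroup.normalizer ((S : Subgroup G) : Set G), ∀ e ∈ E, n * e * n⁻¹ = g * e * g⁻¹ := by
  haveI : Fact (Nat.Prime 2) := ⟨Nat.prime_two⟩
  suffices H : ∀ (m : ℕ) (g : G),
      Nat.card (S : Subgroup G) -
        Nat.card ((S : Subgroup G) ⊓
          Subgroup.centralizer ((fun e => g * e * g⁻¹) '' E) : Subgroup G) = m →
      (∀ e ∈ E, g * e * g⁻¹ ∈ (S : Subgroup G)) →
      ∃ n ∈ Subgroup.normalizer ((S : Subgroup G) : Set G), ∀ e ∈ E, n * e * n⁻¹ = g * e * g⁻¹ from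
    H _ g rfl hg
  intro m
  induction m using Nat.strong_induction_on with
  | _ m ih =>
  intro g hm hg
  set E' := (fun e => g * e * g⁻¹) '' E with hE'
  set C := Subgroup.centralizer E' with hC
  set P := (S : Subgroup G) ⊓ C with hP
  have hgS : (S : Subgroup G).map (MulAut.conj g).toMonoidHom ≤ C := by
    rintro _ ⟨s, hs, rfl⟩
    refine Subgroup.mem_centralizer_iff.2 ?_
    rintro _ ⟨e, he, rfl⟩
    have h1 : s * e = e * s := Subgroup.mem_centralizer_iff.1 (hE he).2 s hs
    simp only [MulEquiv.coe_toMonoidHom, MulAut.conj_apply]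
    calc g * e * g⁻¹ * (g * s * g⁻¹) = g * (e * s) * g⁻¹ := by group
      _ = g * (s * e) * g⁻¹ := by rw [h1]
      _ = g * s * g⁻¹ * (g * e * g⁻¹) := by group
  have hgS' : ((g • S : Sylow 2 G) : Subgroup G) ≤ C := hgS
  by_cases hPS : P = (S : Subgroup G)
  · have hSC : (S : Subgroup G) ≤ C := hPS ▸ inf_le_right
    obtain ⟨d, hd⟩ := MulAction.exists_smul_eq C ((g • S).subtype hgS') (S.subtype hSC)
    have hd' : ((d : G) * g) • S = S := by
      rw [Sylow.smul_subtype] at hd
      rw [mul_smul]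
      exact Sylow.subtype_injective hd
    refine ⟨(d : G) * g, Sylow.smul_eq_iff_mem_normalizer.1 hd', fun e he => ?_⟩
    have h1 : (g * e * g⁻¹) * (d : G) = d * (g * e * g⁻¹) :=
      Subgroup.mem_centralizer_iff.1 d.2 _ ⟨e, he, rfl⟩
    calc (d : G) * g * e * ((d : G) * g)⁻¹ = d * (g * e * g⁻¹) * (d : G)⁻¹ := by group
      _ = g * e * g⁻¹ := by rw [← h1, mul_inv_cancel_right]
  · have hE'S : ∀ e ∈ E, g * e * g⁻¹ ∈ P := fun e he => ⟨hg e he, by
      refine Subgroup.mem_centralizer_iff.2 ?_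
      rintro _ ⟨e₂, he₂, rfl⟩
      have h1 : e₂ * e = e * e₂ := Subgroup.mem_centralizer_iff.1 (hE he).2 e₂ (hE he₂).1
      calc g * e₂ * g⁻¹ * (g * e * g⁻¹) = g * (e₂ * e) * g⁻¹ := by group
        _ = g * (e * e₂) * g⁻¹ := by rw [h1]
        _ = g * e * g⁻¹ * (g * e₂ * g⁻¹) := by group⟩
    have hZP : zSub (S : Subgroup G) ≤ P := fun z hz => ⟨hz.1, Subgroup.mem_centralizer_iff.2
      fun x ⟨e, he, hx⟩ => by
        subst hx
        exact Subgroup.mem_centralizer_iff.1 hz.2 _ (hg e he)⟩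
    have hSP : (S : Subgroup G) ≤ Subgroup.normalizer (P : Set G) := by
      have key : ∀ s ∈ (S : Subgroup G), ∀ y ∈ P, s * y * s⁻¹ ∈ P := by
        intro s hs y hy
        have hy1 : y ∈ (S : Subgroup G) := hy.1
        have hz : ⁅s, y⁆ ∈ zSub (S : Subgroup G) :=
          ⟨(mul_mem (mul_mem (mul_mem hs hy1) (inv_mem hs)) (inv_mem hy1) :
              s * y * s⁻¹ * y⁻¹ ∈ (S : Subgroup G)),
            Subgroup.mem_centralizer_iff.2 fun c hc => (hcl s hs y hy1 c hc).eq.symm⟩
        rw [show s * y * s⁻¹ = ⁅s, y⁆ * y by rw [commutatorElement_def]; group]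
        exact mul_mem (hZP hz) hy
      intro s hs
      rw [Subgroup.mem_normalizer_iff]
      refine fun y => ⟨key s hs y, fun hy => ?_⟩
      have := key s⁻¹ (inv_mem hs) _ hy
      simpa [mul_assoc] using this
    set NP := Subgroup.normalizer (P : Set G) with hNP
    have hPC : P ≤ C := inf_le_right
    obtain ⟨R, hR⟩ := ((S.isPGroup'.to_le (inf_le_left : P ≤ S)).of_equiv
      (Subgroup.subgroupOfEquivOfLe hPC).symm).exists_le_sylow
    have hRcard : Nat.card (S : Subgroup G) ≤ Nat.card R := by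
      obtain ⟨d, hd⟩ := MulAction.exists_smul_eq C ((g • S).subtype hgS') R
      rw [← hd, Nat.card_congr (((g • S).subtype hgS').equivSMul d).toEquiv.symm,
        Sylow.coe_subtype, Nat.card_congr (Subgroup.subgroupOfEquivOfLe hgS').toEquiv,
        ← Nat.card_congr (S.equivSMul g).toEquiv]
    set R' := (R : Subgroup C).map C.subtype with hR'
    have hPR : P ≤ R' := fun x hx => ⟨⟨x, hPC hx⟩, hR hx, rfl⟩
    have hR'2 : IsPGroup 2 R' := R.isPGroup'.map _
    have hPlt : P < R' := lt_of_le_of_ne hPR fun h => by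
      have h1 : Nat.card P < Nat.card (S : Subgroup G) :=
        Set.Finite.card_lt_card (Set.toFinite _) (SetLike.coe_ssubset_coe.2 (lt_of_le_of_ne inf_le_left hPS))
      rw [h, hR', Subgroup.card_map_of_injective C.subtype_injective] at h1
      omega
    set T := R' ⊓ NP with hT
    have hPT : P < T := by
      haveI : Group.IsNilpotent R' := hR'2.isNilpotent
      have hlt : P.subgroupOf R' < ⊤ := lt_top_iff_ne_top.2 fun h =>
        hPlt.not_ge (Subgroup.subgroupOf_eq_top.1 h)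
      have hn := Group.normalizerCondition_of_isNilpotent _ hlt
      obtain ⟨x, hx, hxP⟩ := SetLike.exists_of_lt hn
      refine lt_of_le_of_ne (le_inf hPR Subgroup.le_normalizer) fun h => hxP ?_
      have hxN : (x : G) ∈ NP := by
        rw [hNP, Subgroup.mem_normalizer_iff]
        intro y
        constructor
        · intro hy
          exact (Subgroup.mem_normalizer_iff.1 hx ⟨y, hPR hy⟩).1 hy
        · intro hy
          have hyR : y ∈ R' := by
            have h1 := mul_mem (mul_mem (inv_mem x.2) (hPR hy)) x.2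
            simpa [mul_assoc] using h1
          exact (Subgroup.mem_normalizer_iff.1 hx ⟨y, hyR⟩).2 hy
      have hxT : (x : G) ∈ T := ⟨x.2, hxN⟩
      rw [← h] at hxT
      exact hxT
    have hT2 : IsPGroup 2 T := hR'2.to_le inf_le_left
    obtain ⟨T', hT'⟩ :=
      (hT2.of_equiv (Subgroup.subgroupOfEquivOfLe (inf_le_right : T ≤ NP)).symm).exists_le_sylow
    obtain ⟨h, hh⟩ := MulAction.exists_smul_eq NP T' (S.subtype hSP)
    have hTS : ∀ x ∈ T, (h : G) * x * (h : G)⁻¹ ∈ (S : Subgroup G) := by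
      intro x hx
      have h1 : h * ⟨x, hx.2⟩ * h⁻¹ ∈ ((h • T' : Sylow 2 NP) : Subgroup NP) :=
        ⟨⟨x, hx.2⟩, hT' hx, rfl⟩
      rw [hh, Sylow.coe_subtype] at h1
      exact h1
    have hgood := isGood_of_hyp h3 S hcl hJ _ P rfl inf_le_left hZP hSP (inv_mem h.2)
    rw [← SetLike.mem_coe, Subgroup.coe_mul_of_right_le_normalizer_left _ _
        (inf_le_right.trans (normalizer_le_normalizer_centralizer _))] at hgood
    obtain ⟨c, hc, n, hn, hcn⟩ := hgood
    have hconj : ∀ e ∈ E, (h : G) * g * e * ((h : G) * g)⁻¹ = n⁻¹ * (g * e * g⁻¹) * n := by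
      intro e he
      have hh' : (h : G) = n⁻¹ * c⁻¹ := by
        rw [← mul_inv_rev, show c * n = (h : G)⁻¹ from hcn, inv_inv]
      have h2 : g * e * g⁻¹ * c = c * (g * e * g⁻¹) :=
        Subgroup.mem_centralizer_iff.1 hc _ (hE'S e he)
      rw [hh']
      calc n⁻¹ * c⁻¹ * g * e * (n⁻¹ * c⁻¹ * g)⁻¹ = n⁻¹ * c⁻¹ * (g * e * g⁻¹ * c) * n := by group
        _ = _ := by rw [h2]; group
    have hnS : ∀ e ∈ E, (h : G) * g * e * ((h : G) * g)⁻¹ ∈ (S : Subgroup G) := by
      intro e he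
      rw [hconj e he]
      have := (Subgroup.mem_normalizer_iff.1 (inv_mem hn.1) _).1 (hg e he)
      rwa [inv_inv] at this
    have hlt2 : Nat.card P < Nat.card ((S : Subgroup G) ⊓ Subgroup.centralizer
        ((fun e => (h : G) * g * e * ((h : G) * g)⁻¹) '' E) : Subgroup G) := by
      refine lt_of_lt_of_le (Set.Finite.card_lt_card (Set.toFinite _) (SetLike.coe_ssubset_coe.2 hPT)) ?_
      show Nat.card T ≤ _
      rw [← Subgroup.card_map_of_injective (f := (MulAut.conj (h : G)).toMonoidHom) (K := T)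
        (MulAut.conj (h : G)).injective]
      refine Subgroup.card_le_of_le ?_
      rintro _ ⟨x, hx, rfl⟩
      refine ⟨hTS x hx, Subgroup.mem_centralizer_iff.2 ?_⟩
      rintro _ ⟨e, he, rfl⟩
      have hxC : x ∈ C := Subgroup.map_subtype_le _ hx.1
      have h2 : g * e * g⁻¹ * x = x * (g * e * g⁻¹) :=
        Subgroup.mem_centralizer_iff.1 hxC _ ⟨e, he, rfl⟩
      simp only [MulEquiv.coe_toMonoidHom, MulAut.conj_apply]
      calc (h : G) * g * e * ((h : G) * g)⁻¹ * ((h : G) * x * (h : G)⁻¹)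
          = h * (g * e * g⁻¹ * x) * (h : G)⁻¹ := by group
        _ = _ := by rw [h2]; group
    obtain ⟨n', hn', hn'e⟩ := ih _ (by
      have ha : Nat.card ((S : Subgroup G) ⊓ Subgroup.centralizer
        ((fun e => (h : G) * g * e * ((h : G) * g)⁻¹) '' E) : Subgroup G) ≤
          Nat.card (S : Subgroup G) := Subgroup.card_le_of_le inf_le_left
      rw [← hm]
      omega) ((h : G) * g) rfl hnS
    refine ⟨n * n', mul_mem hn.1 hn', fun e he => ?_⟩
    calc n * n' * e * (n * n')⁻¹ = n * (n' * e * n'⁻¹) * n⁻¹ := by group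
      _ = g * e * g⁻¹ := by rw [hn'e e he, hconj e he]; group

end CfsgLib.FpfSymThree
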