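import Cfsg.Agent.Lib.FpfSymThree.Quadratic
import Cfsg.Agent.Lib.Solvable.Core
import Mathlib.GroupTheory.Sylow

/-!
Enlarging a normal 2-subgroup not containing all maximal elementary abelian subgroups.
-/

set_option autoImplicit false
set_option linter.style.haveILetI false

universe u

namespace CfsgLib.FpfSymThree

open scoped commutatorElement

variable {G : Type u} [Group G]

/-- Commutative of exponent two. -/
def IsElemTwo (B : Subgroup G) : Prop :=
  (∀ x ∈ B, ∀ y ∈ B, x * y = y * x) ∧ ∀ x ∈ B, x ^ 2 = 1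

/-- An elementary abelian subgroup of `S` of largest order. -/
def IsMaxElem (S A : Subgroup G) : Prop :=
  A ≤ S ∧ IsElemTwo A ∧ ∀ B : Subgroup G, B ≤ S → IsElemTwo B → Nat.card B ≤ Nat.card A

/-- Class at most two, elementwise. -/
def ClassTwo (S : Subgroup G) : Prop := ∀ a ∈ S, ∀ b ∈ S, ∀ c ∈ S, Commute ⁅a, b⁆ c

/-- The centre of a subgroup. -/
def zSub (S : Subgroup G) : Subgroup G := S ⊓ Subgroup.centralizer (S : Set G)

theorem isElemTwo_sup {A B : Subgroup G} (hA : IsElemTwo A) (hB : IsElemTwo B)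
    (hAB : A ≤ Subgroup.centralizer (B : Set G)) : IsElemTwo (A ⊔ B) := by
  have hcomm : ∀ {K : Subgroup G}, IsElemTwo K → K ≤ Subgroup.centralizer (K : Set G) :=
    fun hK x hx => Subgroup.mem_centralizer_iff.2 fun y hy => hK.1 y hy x hx
  have hA' : A ⊔ B ≤ Subgroup.centralizer (A : Set G) :=
    sup_le (hcomm hA) (Subgroup.le_centralizer_iff.1 hAB)
  have hB' : A ⊔ B ≤ Subgroup.centralizer (B : Set G) := sup_le hAB (hcomm hB)
  have hM : A ⊔ B ≤ Subgroup.centralizer ((A ⊔ B : Subgroup G) : Set G) :=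
    sup_le (Subgroup.le_centralizer_iff.1 hA') (Subgroup.le_centralizer_iff.1 hB')
  have hc : ∀ x ∈ A ⊔ B, ∀ y ∈ A ⊔ B, x * y = y * x :=
    fun x hx y hy => Subgroup.mem_centralizer_iff.1 (hM hy) x hx
  refine ⟨hc, ?_⟩
  let E : Subgroup G :=
    { carrier := {x | x ∈ A ⊔ B ∧ x ^ 2 = 1}
      one_mem' := ⟨one_mem _, one_pow _⟩
      mul_mem' := fun {a b} ha hb => ⟨mul_mem ha.1 hb.1, by
        rw [Commute.mul_pow (hc a ha.1 b hb.1), ha.2, hb.2, one_mul]⟩
      inv_mem' := fun {a} ha => ⟨inv_mem ha.1, by rw [inv_pow, ha.2, inv_one]⟩ }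
  have hE : A ⊔ B ≤ E := sup_le (fun a ha => ⟨Subgroup.mem_sup_left ha, hA.2 a ha⟩)
    fun b hb => ⟨Subgroup.mem_sup_right hb, hB.2 b hb⟩
  exact fun x hx => (hE hx).2

/-- If an odd element moves `q` by a 2-element it fixes, it fixes `q`. -/
theorem commute_of_odd_step {x q z : G} (hx : Odd (orderOf x)) (hz : x * z = z * x)
    (hq : x * q * x⁻¹ = z * q) {k : ℕ} (hzk : z ^ 2 ^ k = 1) : x * q = q * x := by
  have key : ∀ n : ℕ, x ^ n * q * (x ^ n)⁻¹ = z ^ n * q := by
    intro n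
    induction n with
    | zero => simp
    | succ n ih =>
      have hzn : x * z ^ n = z ^ n * x := (Commute.pow_right hz n).eq
      calc x ^ (n + 1) * q * (x ^ (n + 1))⁻¹ = x * (x ^ n * q * (x ^ n)⁻¹) * x⁻¹ := by
            rw [pow_succ']; group
        _ = x * z ^ n * q * x⁻¹ := by rw [ih]; group
        _ = z ^ n * (x * q * x⁻¹) := by rw [hzn]; group
        _ = z ^ (n + 1) * q := by rw [hq, ← mul_assoc, pow_succ]
  have h := key (orderOf x)
  rw [pow_orderOf_eq_one, one_mul, inv_one, mul_one, right_eq_mul] at h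
  have h1 : orderOf z = 1 := Nat.eq_one_of_dvd_coprimes
    ((Nat.coprime_two_left.2 hx).pow_left k) (orderOf_dvd_of_pow_eq_one hzk)
    (orderOf_dvd_of_pow_eq_one h)
  rw [orderOf_eq_one_iff.1 h1, one_mul, mul_inv_eq_iff_eq_mul] at hq
  exact hq

variable [Finite G]

theorem exists_two_pow_eq_one {H : Subgroup G} (hH : IsPGroup 2 H) {x : G} (hx : x ∈ H) :
    ∃ k, x ^ 2 ^ k = 1 := by
  obtain ⟨k, hk⟩ := hH ⟨x, hx⟩
  exact ⟨k, congrArg Subtype.val hk⟩

/-- A Sylow subgroup meets a normal subgroup in a Sylow subgroup. -/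
theorem exists_sylow_map_eq_inf {p : ℕ} [Fact p.Prime] (S : Sylow p G) (L : Subgroup G)
    [hL : L.Normal] : ∃ R : Sylow p L, (R : Subgroup L).map L.subtype = (S : Subgroup G) ⊓ L := by
  obtain ⟨R, hR⟩ := ((S.isPGroup'.to_le inf_le_left).of_equiv
    (Subgroup.subgroupOfEquivOfLe (inf_le_right : (S : Subgroup G) ⊓ L ≤ L)).symm).exists_le_sylow
  refine ⟨R, (Subgroup.eq_of_le_of_card_ge ?_ ?_).symm⟩
  · intro x hx
    exact ⟨⟨x, hx.2⟩, hR hx, rfl⟩
  · obtain ⟨P, hP⟩ := (R.isPGroup'.map L.subtype).exists_le_sylow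
    obtain ⟨g, hg⟩ := MulAction.exists_smul_eq G P S
    have hle : ((R : Subgroup L).map L.subtype).map (MulAut.conj g).toMonoidHom ≤
        (S : Subgroup G) ⊓ L := by
      rintro _ ⟨x, hx, rfl⟩
      refine ⟨?_, hL.conj_mem x (Subgroup.map_subtype_le _ hx) g⟩
      rw [← hg]
      exact ⟨x, hP hx, rfl⟩
    refine le_trans ?_ (Subgroup.card_le_of_le hle)
    rw [Subgroup.card_map_of_injective (f := (MulAut.conj g).toMonoidHom) (MulAut.conj g).injective]

/-- A normal subgroup is covered by a Sylow 2-subgroup and any subgroup containing its elements of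
odd order. -/
theorem le_sup_inf_of_odd_mem (S : Sylow 2 G) (L E : Subgroup G) [L.Normal]
    (h : ∀ x ∈ L, Odd (orderOf x) → x ∈ E) : L ≤ E ⊔ ((S : Subgroup G) ⊓ L) := by
  haveI : Fact (Nat.Prime 2) := ⟨Nat.prime_two⟩
  obtain ⟨R, hR⟩ := exists_sylow_map_eq_inf S L
  set M := (E ⊔ ((S : Subgroup G) ⊓ L)).subgroupOf L with hM
  suffices hM' : M = ⊤ by
    intro x hx
    have : (⟨x, hx⟩ : L) ∈ M := hM' ▸ Subgroup.mem_top _
    exact this
  refine Subgroup.eq_top_of_le_card _ (Nat.le_of_dvd Nat.card_pos ?_)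
  rw [Nat.dvd_iff_prime_pow_dvd_dvd]
  intro r k hr hk
  haveI : Fact r.Prime := ⟨hr⟩
  by_cases hr2 : r = 2
  · subst hr2
    refine (R.pow_dvd_card_of_pow_dvd_card hk).trans (Subgroup.card_dvd_of_le fun x hx => ?_)
    exact Subgroup.mem_sup_right (hR ▸ ⟨x, hx, rfl⟩)
  · obtain ⟨P⟩ : Nonempty (Sylow r L) := inferInstance
    refine (P.pow_dvd_card_of_pow_dvd_card hk).trans (Subgroup.card_dvd_of_le fun x hx => ?_)
    obtain ⟨j, hj⟩ := IsPGroup.iff_orderOf.1 P.isPGroup' ⟨x, hx⟩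
    rw [Subgroup.orderOf_mk, ← Subgroup.orderOf_coe] at hj
    refine Subgroup.mem_sup_left (h _ x.2 ?_)
    show Odd (orderOf (x : G))
    rw [hj]
    exact (hr.odd_of_ne_two hr2).pow

/-- The enlargement step. -/
theorem exists_grow (h3 : ¬ 3 ∣ Nat.card G) (S : Sylow 2 G) (hcl : ClassTwo (S : Subgroup G))
    (Q : Subgroup G) [hQn : Q.Normal] (hQS : Q ≤ S) (hZQ : zSub (S : Subgroup G) ≤ Q)
    {A : Subgroup G} (hA : IsMaxElem (S : Subgroup G) A) (hAQ : ¬ A ≤ Q) :
    ∃ Q₁ : Subgroup G, Q < Q₁ ∧ Q₁ ≤ S ∧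
      (S : Subgroup G) ≤ Subgroup.normalizer (Q₁ : Set G) ∧
      Subgroup.centralizer (Q : Set G) ⊔ Subgroup.normalizer (Q₁ : Set G) = ⊤ := by
  haveI : Fact (Nat.Prime 2) := ⟨Nat.prime_two⟩
  set C := Subgroup.centralizer (Q : Set G) with hC
  haveI hCn : C.Normal := Subgroup.normal_centralizer
  set ZQ := Q ⊓ C with hZQdef
  haveI hZQn : ZQ.Normal := inferInstance
  have hzc : ∀ z ∈ ZQ, ∀ q ∈ Q, q * z = z * q := fun z hz q hq =>
    Subgroup.mem_centralizer_iff.1 hz.2 q hq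
  let V : Subgroup G :=
    { carrier := {v | v ∈ ZQ ∧ v ^ 2 = 1}
      one_mem' := ⟨one_mem _, one_pow _⟩
      mul_mem' := fun {a b} ha hb => ⟨mul_mem ha.1 hb.1, by
        rw [Commute.mul_pow (hzc b hb.1 a ha.1.1), ha.2, hb.2, one_mul]⟩
      inv_mem' := fun {a} ha => ⟨inv_mem ha.1, by rw [inv_pow, ha.2, inv_one]⟩ }
  haveI hVn : V.Normal := ⟨fun v hv g =>
    ⟨hZQn.conj_mem v hv.1 g, by rw [conj_pow, hv.2]; group⟩⟩
  have hVS : V ≤ S := fun v hv => hQS hv.1.1
  have hVel : IsElemTwo V :=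
    ⟨fun x hx y hy => hzc y hy.1 x hx.1.1, fun x hx => hx.2⟩
  let K : Subgroup G :=
    { carrier := {g | ∀ q ∈ Q, g * q * g⁻¹ * q⁻¹ ∈ ZQ}
      one_mem' := fun q _ => by simp
      mul_mem' := fun {a b} ha hb q hq => by
        have h1 := ha _ (hQn.conj_mem q hq b)
        have h2 := hb q hq
        have he : a * b * q * (a * b)⁻¹ * q⁻¹ =
            (a * (b * q * b⁻¹) * a⁻¹ * (b * q * b⁻¹)⁻¹) * (b * q * b⁻¹ * q⁻¹) := by group
        rw [he]
        exact mul_mem h1 h2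
      inv_mem' := fun {a} ha q hq => by
        have h1 := inv_mem (ha _ (hQn.conj_mem q hq a⁻¹))
        have he : a⁻¹ * q * a⁻¹⁻¹ * q⁻¹ =
            (a * (a⁻¹ * q * a⁻¹⁻¹) * a⁻¹ * (a⁻¹ * q * a⁻¹⁻¹)⁻¹)⁻¹ := by group
        rw [he]
        exact h1 }
  haveI hKn : K.Normal := ⟨fun k hk g q hq => by
    have h := hZQn.conj_mem _ (hk _ (hQn.conj_mem q hq g⁻¹)) g
    convert h using 1
    group⟩
  have hSK : (S : Subgroup G) ≤ K := by
    intro s hs q hq
    have hmem : s * q * s⁻¹ * q⁻¹ ∈ (S : Subgroup G) :=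
      mul_mem (mul_mem (mul_mem hs (hQS hq)) (inv_mem hs)) (inv_mem (hQS hq))
    have hz : s * q * s⁻¹ * q⁻¹ ∈ zSub (S : Subgroup G) :=
      ⟨hmem, Subgroup.mem_centralizer_iff.2 fun c hc => (hcl s hs q (hQS hq) c hc).eq.symm⟩
    refine ⟨hZQ hz, Subgroup.mem_centralizer_iff.2 fun c hc => ?_⟩
    exact Subgroup.mem_centralizer_iff.1 hz.2 c (hQS hc)
  set D := K ⊓ Subgroup.centralizer (V : Set G) with hD
  haveI hDn : D.Normal := inferInstance
  have hQD : Q ≤ D := le_inf (le_trans hQS hSK) fun q hq =>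
    Subgroup.mem_centralizer_iff.2 fun v hv => (hzc v hv.1 q hq).symm
  have hDodd : ∀ x ∈ D, Odd (orderOf x) → x ∈ C := by
    intro x hx ho
    have hxV : ∀ v ∈ V, x * v = v * x := fun v hv =>
      (Subgroup.mem_centralizer_iff.1 hx.2 v hv).symm
    have hxZ : ∀ k : ℕ, ∀ z ∈ ZQ, z ^ 2 ^ k = 1 → x * z = z * x := by
      intro k
      induction k with
      | zero =>
        intro z _ hz
        rw [pow_zero, pow_one] at hz
        rw [hz, mul_one, one_mul]
      | succ k ih =>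
        intro z hz hzk
        have hz2 : x * z ^ 2 = z ^ 2 * x := by
          refine ih (z ^ 2) (pow_mem hz 2) ?_
          rw [← pow_mul, ← pow_succ']
          exact hzk
        have hxz : x * z * x⁻¹ ∈ ZQ := hZQn.conj_mem z hz x
        have hw2 : (x * z * x⁻¹ * z⁻¹) ^ 2 = 1 := by
          rw [Commute.mul_pow (Commute.inv_right (hzc z hz _ hxz.1)), conj_pow, hz2, inv_pow]
          group
        refine commute_of_odd_step ho (hxV _ ⟨mul_mem hxz (inv_mem hz), hw2⟩) (by group)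
          (k := 1) (by rw [pow_one]; exact hw2)
    refine Subgroup.mem_centralizer_iff.2 fun q hq => ?_
    have hz := hx.1 q hq
    obtain ⟨k, hk⟩ := exists_two_pow_eq_one S.isPGroup' (hQS hz.1)
    exact (commute_of_odd_step ho (hxZ k _ hz hk) (by group) hk).symm
  obtain ⟨L, hLn, hDL, hLodd, hQlt⟩ : ∃ L : Subgroup G, L.Normal ∧ D ≤ L ∧
      (∀ x ∈ L, Odd (orderOf x) → x ∈ D) ∧ Q < (S : Subgroup G) ⊓ L := by
    by_cases hAD : A ≤ D
    · exact ⟨D, hDn, le_rfl, fun x hx _ => hx, lt_of_le_of_ne (le_inf hQS hQD)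
        fun h => hAQ (h ▸ le_inf hA.1 hAD)⟩
    letI : CommGroup V :=
      { (inferInstance : Group V) with
        mul_comm := fun a b => Subtype.ext (hVel.1 a a.2 b b.2) }
    let ρ : K →* MulAut V := (MulAut.conjNormal (H := V)).comp K.subtype
    have hρ : ∀ (k : K) (v : V), ((ρ k v : V) : G) = k * v * (k : G)⁻¹ := fun k v =>
      MulAut.conjNormal_apply (k : G) v
    have hρD : ∀ k : K, ρ k = 1 ↔ (k : G) ∈ D := by
      intro k
      constructor
      · intro h
        refine ⟨k.2, Subgroup.mem_centralizer_iff.2 fun v hv => ?_⟩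
        have h1 := hρ k ⟨v, hv⟩
        rw [h] at h1
        exact mul_inv_eq_iff_eq_mul.1 h1.symm |>.symm
      · intro h
        refine MulEquiv.ext fun v => Subtype.ext ?_
        rw [hρ, ← Subgroup.mem_centralizer_iff.1 h.2 (v : G) v.2, mul_inv_cancel_right]
        rfl
    let X : Subgroup (MulAut V) := ρ.range
    have hsm : ∀ (k : K) (v : V), (ρ.rangeRestrict k) • v = ρ k v := fun k v => rfl
    have hXq : Quad X V := by
      intro P hP p hp q hq v
      set S' : Sylow 2 X := (S.subtype hSK).mapSurjective ρ.rangeRestrict_surjective with hS'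
      obtain ⟨T, hPT⟩ := hP.exists_le_sylow
      obtain ⟨x, hx⟩ := MulAction.exists_smul_eq X S' T
      have hconj : ∀ y ∈ P, ∃ s ∈ (S : Subgroup G), ∃ hs : s ∈ K,
          y = x * ρ.rangeRestrict ⟨s, hs⟩ * x⁻¹ := by
        intro y hy
        have hy' := hPT hy
        rw [← hx] at hy'
        obtain ⟨z, hz, rfl⟩ := hy'
        rw [hS', Sylow.coe_mapSurjective] at hz
        obtain ⟨s, hs, rfl⟩ := hz
        exact ⟨s, hs, s.2, rfl⟩
      obtain ⟨s, hs, hsK, rfl⟩ := hconj p hp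
      obtain ⟨t, ht, htK, rfl⟩ := hconj q hq
      set p₀ := ρ.rangeRestrict ⟨s, hsK⟩
      set q₀ := ρ.rangeRestrict ⟨t, htK⟩
      have h0 : ∀ w : V, q₀ • (p₀ • w / w) = p₀ • w / w := by
        intro w
        refine Subtype.ext ?_
        rw [hsm, hρ, Subgroup.coe_div, hsm, hρ]
        have hc := hcl s hs (w : G) (hVS w.2) t ht
        simp only [commutatorElement_def] at hc
        rw [div_eq_mul_inv]
        show t * (s * w * s⁻¹ * (w : G)⁻¹) * t⁻¹ = _
        rw [← hc.eq, mul_inv_cancel_right]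
      have e1 : (x * p₀ * x⁻¹) • v / v = x • (p₀ • (x⁻¹ • v) / (x⁻¹ • v)) := by
        rw [smul_div', smul_inv_smul, mul_smul, mul_smul]
      rw [e1, mul_smul, mul_smul, inv_smul_smul, h0]
    set B : Subgroup X := (A.subgroupOf K).map ρ.rangeRestrict with hB
    have hAK : A ≤ K := hA.1.trans hSK
    have hBoff : IsOff V B := by
      refine ⟨((S.isPGroup'.to_le hA.1).of_equiv
        (Subgroup.subgroupOfEquivOfLe hAK).symm).map _, fun hb => hAD fun a ha => ?_, ?_⟩
      · have h1 : ρ.rangeRestrict ⟨a, hAK ha⟩ ∈ B := ⟨⟨a, hAK ha⟩, ha, rfl⟩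
        rw [hb, Subgroup.mem_bot] at h1
        exact (hρD ⟨a, hAK ha⟩).1 (congrArg Subtype.val h1)
      set A₀ := A ⊓ D with hA₀
      have hBcard : Nat.card A₀ * Nat.card B = Nat.card A := by
        rw [← card_mul_relIndex_aux (inf_le_left : A₀ ≤ A)]
        congr 1
        rw [hB, ← Subgroup.relIndex_ker, Subgroup.inf_relIndex_left,
          ← Subgroup.relIndex_subgroupOf hAK]
        congr 1
        ext k
        rw [MonoidHom.ker_rangeRestrict, MonoidHom.mem_ker, Subgroup.mem_subgroupOf, hρD]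
      have hA₀el : IsElemTwo A₀ :=
        ⟨fun x hx y hy => hA.2.1.1 x hx.1 y hy.1, fun x hx => hA.2.1.2 x hx.1⟩
      have hA₀V : A₀ ≤ Subgroup.centralizer (V : Set G) :=
        inf_le_right.trans inf_le_right
      have hle := hA.2.2 (A₀ ⊔ V) (sup_le (inf_le_left.trans hA.1) hVS)
        (isElemTwo_sup hA₀el hVel hA₀V)
      have e2 : Nat.card V * V.relIndex A₀ = Nat.card (A₀ ⊔ V : Subgroup G) := by
        rw [← card_mul_relIndex_aux (le_sup_right : V ≤ A₀ ⊔ V), Subgroup.relIndex_sup_right]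
      have e3 : Nat.card (V ⊓ A₀ : Subgroup G) * V.relIndex A₀ = Nat.card A₀ := by
        rw [← Subgroup.inf_relIndex_right V A₀]
        exact card_mul_relIndex_aux inf_le_right
      have hfix : Nat.card (V ⊓ A₀ : Subgroup G) ≤ Nat.card (fixOf B : Subgroup V) := by
        refine Nat.card_le_card_of_injective
          (fun w => ⟨⟨(w : G), w.2.1⟩, ?_⟩) fun a b h => ?_
        · rintro _ ⟨k, hk, rfl⟩
          refine Subtype.ext ?_
          rw [hsm, hρ]
          exact mul_inv_eq_iff_eq_mul.2 (hA.2.1.1 (k : G) hk (w : G) w.2.2.1)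
        · exact Subtype.ext (congrArg (fun z : (fixOf B : Subgroup V) => ((z : V) : G)) h)
      refine Nat.le_of_mul_le_mul_left ?_ (Nat.card_pos (α := A₀))
      calc Nat.card A₀ * Nat.card V
          = Nat.card (V ⊓ A₀ : Subgroup G) * Nat.card (A₀ ⊔ V : Subgroup G) := by
            rw [← e2, ← e3]; ring
        _ ≤ Nat.card (V ⊓ A₀ : Subgroup G) * Nat.card A := Nat.mul_le_mul_left _ hle
        _ ≤ Nat.card (fixOf B : Subgroup V) * Nat.card A := Nat.mul_le_mul_right _ hfix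
        _ = Nat.card A₀ * (Nat.card B * Nat.card (fixOf B : Subgroup V)) := by
            rw [← hBcard]; ring
    have hX3 : ¬ 3 ∣ Nat.card X := fun h =>
      h3 ((h.trans (Subgroup.card_range_dvd ρ)).trans (Subgroup.card_subgroup_dvd_card K))
    have hVexp : ∀ v : V, v ^ 2 = 1 := fun v => Subtype.ext v.2.2
    obtain ⟨N, hNn, hN2, hNbot⟩ := pCore_ne_bot_of_off hVexp hX3 hXq hBoff
    haveI := CfsgLib.Solvable.pCore_normal 2 (G ⧸ D)
    set f := QuotientGroup.mk' D with hf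
    set M := (N.comap ρ.rangeRestrict).map K.subtype with hM
    have hML : M ≤ (Cfsg.pCore 2 (G ⧸ D)).comap f := by
      set Kbar := K.map f with hKbar
      haveI : Kbar.Normal := hKn.map f (QuotientGroup.mk'_surjective D)
      set fK : K →* Kbar := f.subgroupMap K with hfK
      set Mbar := (N.comap ρ.rangeRestrict).map fK with hMbar
      have hMbar2 : IsPGroup 2 Mbar := by
        rintro ⟨_, k, hk, rfl⟩
        obtain ⟨j, hj⟩ := hN2 ⟨_, hk⟩
        refine ⟨j, Subtype.ext ?_⟩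
        have h1 : ρ (k ^ 2 ^ j) = 1 := by
          have h2 := congrArg (fun z : N => ((z : X) : MulAut V)) hj
          simpa using h2
        have h2 : fK k ^ 2 ^ j = 1 := by
          rw [← map_pow]
          exact Subtype.ext ((QuotientGroup.eq_one_iff _).2 ((hρD _).1 h1))
        exact h2
      have hle : Mbar ≤ Cfsg.pCore 2 Kbar :=
        CfsgLib.Solvable.le_pCore ((hNn.comap _).map _ (f.subgroupMap_surjective K)) hMbar2
      rintro _ ⟨k, hk, rfl⟩
      exact CfsgLib.Solvable.map_subtype_pCore_le Kbar ⟨fK k, hle ⟨k, hk, rfl⟩, rfl⟩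
    set L := (Cfsg.pCore 2 (G ⧸ D)).comap f with hL
    haveI hLn' : L.Normal := Subgroup.Normal.comap inferInstance f
    have hDL : D ≤ L := fun x hx => by
      rw [hL, Subgroup.mem_comap, hf, QuotientGroup.mk'_apply, (QuotientGroup.eq_one_iff x).2 hx]
      exact one_mem _
    have hLodd' : ∀ x ∈ L, Odd (orderOf x) → x ∈ D := fun x hx ho => by
      obtain ⟨j, hj⟩ := exists_two_pow_eq_one (CfsgLib.Solvable.pCore_isPGroup 2 _) hx
      refine (QuotientGroup.eq_one_iff x).1 (orderOf_eq_one_iff.1 ?_)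
      exact Nat.eq_one_of_dvd_coprimes ((Nat.coprime_two_left.2 ho).pow_left j)
        (orderOf_dvd_of_pow_eq_one hj) (orderOf_map_dvd f x)
    refine ⟨L, hLn', hDL, hLodd', lt_of_le_of_ne (le_inf hQS (hQD.trans hDL)) fun h => hNbot ?_⟩
    have hLD : L ≤ D := (le_sup_inf_of_odd_mem S L D hLodd').trans
        (sup_le le_rfl (h ▸ hQD))
    rw [eq_bot_iff]
    intro n hn
    obtain ⟨k, rfl⟩ := ρ.rangeRestrict_surjective n
    rw [Subgroup.mem_bot]
    exact Subtype.ext ((hρD k).2 (hLD (hML ⟨k, hn, rfl⟩)))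
  haveI := hLn
  set Q₁ := (S : Subgroup G) ⊓ L with hQ₁
  have hSQ₁ : (S : Subgroup G) ≤ Subgroup.normalizer (Q₁ : Set G) := by
    intro s hs
    rw [Subgroup.mem_normalizer_iff]
    intro y
    constructor
    · intro hy
      have hy1 : y ∈ (S : Subgroup G) := hy.1
      exact ⟨(mul_mem (mul_mem hs hy1) (inv_mem hs) : s * y * s⁻¹ ∈ (S : Subgroup G)),
        hLn.conj_mem y hy.2 s⟩
    · intro hy
      have hy1 : s * y * s⁻¹ ∈ (S : Subgroup G) := hy.1
      have h1 : s⁻¹ * (s * y * s⁻¹) * s⁻¹⁻¹ ∈ Q₁ :=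
        ⟨(mul_mem (mul_mem (inv_mem hs) hy1) (inv_mem (inv_mem hs)) :
          s⁻¹ * (s * y * s⁻¹) * s⁻¹⁻¹ ∈ (S : Subgroup G)), hLn.conj_mem _ hy.2 s⁻¹⟩
      simpa [mul_assoc] using h1
  refine ⟨Q₁, hQlt, inf_le_left, hSQ₁, ?_⟩
  obtain ⟨R, hR⟩ := exists_sylow_map_eq_inf S L
  have hfr := Sylow.normalizer_sup_eq_top R
  rw [hR] at hfr
  rw [eq_top_iff, ← hfr]
  refine sup_le le_sup_right ((le_sup_inf_of_odd_mem S L D hLodd).trans (sup_le ?_ ?_))
  · refine (le_sup_inf_of_odd_mem S D C hDodd).trans (sup_le le_sup_left ?_)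
    exact (inf_le_left.trans hSQ₁).trans le_sup_right
  · exact Subgroup.le_normalizer.trans le_sup_right

end CfsgLib.FpfSymThree
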