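import Cfsg.Agent.Lib.FpfSymThree.SolvableCase
import Cfsg.Prelude.Def_Local

/-!
Subgroups containing a Sylow 2-subgroup: odd cores and Sylow normalizers.
-/

set_option autoImplicit false
set_option linter.style.haveILetI false

universe u

namespace CfsgLib.FpfSymThree

open CfsgLib.Solvable
open scoped Pointwise

variable {G : Type u} [Group G] [Finite G]

/-- The restriction of an automorphism to an invariant subgroup. -/
noncomputable def resAut (φ : MulAut G) (H : Subgroup G) (hH : ∀ g ∈ H, φ g ∈ H) : MulAut H :=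
  MulEquiv.ofBijective
    ({ toFun := fun x => ⟨φ x, hH x x.2⟩
       map_one' := Subtype.ext (map_one φ)
       map_mul' := fun a b => Subtype.ext (map_mul φ _ _) } : H →* H)
    (Finite.injective_iff_bijective.1 fun a b h =>
      Subtype.ext (φ.injective (congrArg Subtype.val h)))

@[simp] theorem resAut_coe (φ : MulAut G) (H : Subgroup G) (hH : ∀ g ∈ H, φ g ∈ H) (x : H) :
    ((resAut φ H hH x : H) : G) = φ x := rfl

theorem resAut_isTri {φ : MulAut G} (hφ : IsTri φ) (H : Subgroup G) (hH : ∀ g ∈ H, φ g ∈ H) :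
    IsTri (resAut φ H hH) := fun x => Subtype.ext (hφ x)

theorem resAut_fix_odd {φ : MulAut G} (hodd : ∀ g, φ g = g → Odd (orderOf g)) (H : Subgroup G)
    (hH : ∀ g ∈ H, φ g ∈ H) (x : H) (hx : resAut φ H hH x = x) : Odd (orderOf x) := by
  rw [← Subgroup.orderOf_coe]
  exact hodd _ (congrArg Subtype.val hx)

/-- The odd core of a subgroup, as a subgroup of the group. -/
def coreIn (M : Subgroup G) : Subgroup G := (Cfsg.pPrimeCore 2 M).map M.subtype

theorem coreIn_le (M : Subgroup G) : coreIn M ≤ M := Subgroup.map_subtype_le _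

theorem coreIn_card (M : Subgroup G) : Odd (Nat.card (coreIn M)) := by
  rw [coreIn, Subgroup.card_map_of_injective M.subtype_injective]
  exact Nat.coprime_two_right.1 (pPrimeCore_card_coprime 2 M)

theorem conj_mem_coreIn {M : Subgroup G} {g x : G} (hg : g ∈ M) (hx : x ∈ coreIn M) :
    g * x * g⁻¹ ∈ coreIn M := by
  obtain ⟨y, hy, rfl⟩ := hx
  exact ⟨⟨g, hg⟩ * y * ⟨g, hg⟩⁻¹, (pPrimeCore_normal 2 M).conj_mem y hy _, rfl⟩

theorem eq_one_of_odd_mem_twoGroup {P : Subgroup G} (hP : IsPGroup 2 P) {x : G} (hx : x ∈ P)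
    (ho : Odd (orderOf x)) : x = 1 := by
  obtain ⟨k, hk⟩ := hP ⟨x, hx⟩
  have hk' : x ^ 2 ^ k = 1 := congrArg Subtype.val hk
  exact orderOf_eq_one_iff.1 (Nat.eq_one_of_dvd_coprimes ((Nat.coprime_two_left.2 ho).pow_left k)
    (orderOf_dvd_of_pow_eq_one hk') dvd_rfl)

theorem odd_orderOf_of_mem {H : Subgroup G} (hH : Odd (Nat.card H)) {x : G} (hx : x ∈ H) :
    Odd (orderOf x) := Odd.of_dvd_nat hH (Subgroup.orderOf_dvd_natCard H hx)

/-- The odd core of an overgroup of a Sylow subgroup centralises it up to normalisation. -/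
theorem coreIn_commute {M : Subgroup G} (S : Sylow 2 G) (hSM : (S : Subgroup G) ≤ M) {o x : G}
    (ho : o ∈ coreIn M) (hx : x ∈ (S : Subgroup G)) (hox : o * x * o⁻¹ ∈ (S : Subgroup G)) :
    o * x = x * o := by
  have h1 : o * x * o⁻¹ * x⁻¹ ∈ coreIn M := by
    rw [show o * x * o⁻¹ * x⁻¹ = o * (x * o⁻¹ * x⁻¹) by group]
    exact mul_mem ho (conj_mem_coreIn (hSM hx) (inv_mem ho))
  have h2 := eq_one_of_odd_mem_twoGroup S.isPGroup' (mul_mem hox (inv_mem hx))
    (odd_orderOf_of_mem (coreIn_card M) h1)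
  rw [mul_inv_eq_one, mul_inv_eq_iff_eq_mul] at h2
  exact h2

/-- Decomposition of a subgroup with a normal Sylow subgroup modulo its odd core. -/
theorem exists_core_normalizer {M : Subgroup G} (S : Sylow 2 G) (hSM : (S : Subgroup G) ≤ M)
    (h : ¬ 2 ∣ (Cfsg.pPrimePCore 2 M).index) {g : G} (hg : g ∈ M) :
    ∃ o ∈ coreIn M, ∃ n ∈ Subgroup.normalizer ((S : Subgroup G) : Set G), n ∈ M ∧ g = o * n := by
  haveI : Fact (Nat.Prime 2) := ⟨Nat.prime_two⟩
  have h1 := core_sup_normalizer_eq_top h (S.subtype hSM)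
  haveI := pPrimeCore_normal 2 M
  have h2 : (⟨g, hg⟩ : M) ∈ ((Cfsg.pPrimeCore 2 M : Subgroup M) : Set M) *
      ((Subgroup.normalizer ((S.subtype hSM : Subgroup M) : Set M) : Subgroup M) : Set M) := by
    rw [← Subgroup.normal_mul]
    exact h1 ▸ Subgroup.mem_top _
  obtain ⟨o, ho, n, hn, hon⟩ := h2
  refine ⟨(o : G), ⟨o, ho, rfl⟩, (n : G), ?_, n.2, (congrArg Subtype.val hon).symm⟩
  rw [Subgroup.mem_normalizer_iff]
  intro y
  rw [Sylow.coe_subtype] at hn
  constructor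
  · intro hy
    exact (Subgroup.mem_normalizer_iff.1 hn ⟨y, hSM hy⟩).1 hy
  · intro hy
    have hyM : y ∈ M := by
      have h3 := mul_mem (mul_mem (inv_mem n.2) (hSM hy)) n.2
      simpa [mul_assoc] using h3
    exact (Subgroup.mem_normalizer_iff.1 hn ⟨y, hyM⟩).2 hy

/-- In a solvable group with trivial core the centralizer of the 2-core lies in it. -/
theorem centralizer_pCore_two_le {M : Type u} [Group M] [Finite M] [Group.IsSolvable M]
    (hO : Cfsg.pPrimeCore 2 M = ⊥) :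
    Subgroup.centralizer ((Cfsg.pCore 2 M : Subgroup M) : Set M) ≤ Cfsg.pCore 2 M := by
  have hFQ : Cfsg.fittingSubgroup M ≤ Cfsg.pCore 2 M := by
    rw [fittingSubgroup_eq_iSup_pCore]
    refine iSup_le fun q => ?_
    haveI : Fact (q : ℕ).Prime := ⟨(Nat.mem_primeFactors.1 q.2).1⟩
    by_cases hq : (q : ℕ) = 2
    · rw [hq]
    · refine le_trans (le_pPrimeCore (pCore_normal _ M) ?_) (hO.le.trans bot_le)
      obtain ⟨n, hn⟩ := card_pCore (p := (q : ℕ)) (G := M)
      rw [hn]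
      exact ((Nat.coprime_primes (Fact.out : (q : ℕ).Prime) Nat.prime_two).2 hq).pow_left n
  exact le_trans (Subgroup.centralizer_le hFQ) (le_trans centralizer_fittingSubgroup_le hFQ)

/-- An odd subgroup normalised by a Sylow subgroup of a solvable group lies in the odd core. -/
theorem le_coreIn_of_sylow_normalizes {M : Subgroup G} [Group.IsSolvable M] (S : Sylow 2 G)
    (hSM : (S : Subgroup G) ≤ M) {D : Subgroup G} (hDM : D ≤ M) (hD : Odd (Nat.card D))
    (hnorm : ∀ s ∈ (S : Subgroup G), ∀ d ∈ D, s * d * s⁻¹ ∈ D) : D ≤ coreIn M := by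
  haveI : Fact (Nat.Prime 2) := ⟨Nat.prime_two⟩
  haveI := pPrimeCore_normal 2 M
  set f := QuotientGroup.mk' (Cfsg.pPrimeCore 2 M) with hf
  have hsurj : Function.Surjective f := QuotientGroup.mk'_surjective _
  haveI : Group.IsSolvable (M ⧸ Cfsg.pPrimeCore 2 M) := Group.isSolvable_of_surjective hsurj
  haveI := pCore_normal 2 (M ⧸ Cfsg.pPrimeCore 2 M)
  intro d hd
  have hdo : Odd (orderOf (f ⟨d, hDM hd⟩)) := by
    refine Odd.of_dvd_nat ?_ (orderOf_map_dvd f _)
    rw [Subgroup.orderOf_mk]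
    exact odd_orderOf_of_mem hD hd
  have hc : f ⟨d, hDM hd⟩ ∈ Subgroup.centralizer
      ((Cfsg.pCore 2 (M ⧸ Cfsg.pPrimeCore 2 M) : Subgroup _) : Set _) := by
    refine Subgroup.mem_centralizer_iff.2 fun q hq => ?_
    have hqS : q ∈ (((S.subtype hSM).mapSurjective hsurj : Sylow 2 _) : Subgroup _) :=
      pCore_le_sylow _ hq
    rw [Sylow.coe_mapSurjective] at hqS
    obtain ⟨s, hs, rfl⟩ := hqS
    have hs' : (s : G) ∈ (S : Subgroup G) := by
      rw [Sylow.coe_subtype] at hs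
      exact hs
    set c : M := ⟨d, hDM hd⟩ * s * (⟨d, hDM hd⟩)⁻¹ * s⁻¹ with hc
    have hcD : (c : G) ∈ D := by
      show d * (s : G) * d⁻¹ * (s : G)⁻¹ ∈ D
      rw [show d * (s : G) * d⁻¹ * (s : G)⁻¹ = d * ((s : G) * d⁻¹ * (s : G)⁻¹) by group]
      exact mul_mem hd (hnorm _ hs' _ (inv_mem hd))
    have hcQ : f c ∈ Cfsg.pCore 2 (M ⧸ Cfsg.pPrimeCore 2 M) := by
      rw [hc, map_mul, map_mul, map_mul, map_inv, map_inv]
      exact mul_mem ((pCore_normal 2 _).conj_mem _ hq _) (inv_mem hq)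
    have h1 : f c = 1 := eq_one_of_odd_mem_twoGroup (pCore_isPGroup 2 _) hcQ (Odd.of_dvd_nat
      (by rw [← Subgroup.orderOf_coe]; exact odd_orderOf_of_mem hD hcD) (orderOf_map_dvd f _))
    rw [hc, map_mul, map_mul, map_mul, map_inv, map_inv, mul_inv_eq_one,
      mul_inv_eq_iff_eq_mul] at h1
    exact h1.symm
  have hq := centralizer_pCore_two_le (pPrimeCore_quotient_eq_bot _ rfl) hc
  exact ⟨⟨d, hDM hd⟩, (QuotientGroup.eq_one_iff _).1
    (eq_one_of_odd_mem_twoGroup (pCore_isPGroup 2 _) hq hdo), rfl⟩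

/-- The inverse image of the 2-core modulo the odd core lies in the odd core times any Sylow
subgroup. -/
theorem pPrimePCore_le {M : Type u} [Group M] [Finite M] (S : Sylow 2 M) :
    Cfsg.pPrimePCore 2 M ≤ Cfsg.pPrimeCore 2 M ⊔ (S : Subgroup M) := by
  haveI : Fact (Nat.Prime 2) := ⟨Nat.prime_two⟩
  haveI := pPrimeCore_normal 2 M
  haveI := pCore_normal 2 (M ⧸ Cfsg.pPrimeCore 2 M)
  rw [Cfsg.pPrimePCore]
  set f := QuotientGroup.mk' (Cfsg.pPrimeCore 2 M)
  intro x hx
  have h1 := pCore_le_sylow (S.mapSurjective (QuotientGroup.mk'_surjective _)) hx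
  rw [Sylow.coe_mapSurjective] at h1
  have h2 : x ∈ ((S : Subgroup M).map f).comap f := h1
  rw [Subgroup.comap_map_eq, QuotientGroup.ker_mk'] at h2
  rwa [sup_comm]

end CfsgLib.FpfSymThree
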