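import Cfsg.Agent.Lib.FpfSymThree.Minimal
import Cfsg.Agent.Lib.Signalizer.SolvableFunctor
import Cfsg.Agent.Lib.Components.AutQuotient
import Cfsg.Agent.Lib.Invol.Dihedral

/-!
A group of order prime to three with an automorphism of order three whose fixed points form an
abelian group of odd order is solvable, given the solvability of groups of odd order.
-/

set_option autoImplicit false
set_option linter.style.haveILetI false

universe u

namespace CfsgLib.FpfSymThree

open CfsgLib.Solvable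

variable {G : Type u} [Group G] [Finite G] {φ : MulAut G} {S : Sylow 2 G}

namespace IsMinimal

variable (hM : IsMinimal φ S)
include hM

theorem omegaZ_elementary : Cfsg.IsElementaryAbelian 2 (omegaZ (S : Subgroup G)) :=
  ⟨⟨⟨fun a b => Subtype.ext ((omegaZ_isElem _).1 _ a.2 _ b.2)⟩⟩, fun _ ha => ha.2⟩

theorem isFunctor : Cfsg.IsSolvableSignalizerFunctor 2 (omegaZ (S : Subgroup G))
    (Cfsg.centralizerPPrimeCore 2) := by
  refine ⟨⟨fun a _ _ => coreIn_le _, fun a _ _ => ?_, fun a ha _ b hb x hx => ?_,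
    fun a ha ha1 b hb hb1 => ?_⟩, fun a _ _ => hM.oddSolv _ (coreIn_card _)⟩
  · exact fun h => Nat.not_even_iff_odd.2 (coreIn_card _) (even_iff_two_dvd.2 h)
  · exact conj_mem_coreIn (le_centralizer_of_mem_omegaZ ha (omegaZ_le _ hb)) hx
  · haveI := (hM.centralizer_decomp hb hb1).1
    refine le_coreIn_of_sylow_normalizes S (le_centralizer_of_mem_omegaZ hb) inf_le_right
      (Odd.of_dvd_nat (coreIn_card _) (Subgroup.card_dvd_of_le inf_le_left))
      fun s hs d hd => ?_
    refine ⟨conj_mem_coreIn (le_centralizer_of_mem_omegaZ ha hs) hd.1, ?_⟩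
    have h2 : d ∈ Subgroup.centralizer ({b} : Set G) := hd.2
    exact (mul_mem (mul_mem (le_centralizer_of_mem_omegaZ hb hs) h2)
      (inv_mem (le_centralizer_of_mem_omegaZ hb hs)) :
        s * d * s⁻¹ ∈ Subgroup.centralizer ({b} : Set G))

/-- All centralizers of central involutions lie in one proper invariant subgroup. -/
theorem exists_container : ∃ M : Subgroup G, M ≠ ⊤ ∧
    ∀ a ∈ omegaZ (S : Subgroup G), a ≠ 1 → Subgroup.centralizer ({a} : Set G) ≤ M := by
  haveI : Fact (Nat.Prime 2) := ⟨Nat.prime_two⟩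
  set A := omegaZ (S : Subgroup G) with hA
  set θ : G → Subgroup G := Cfsg.centralizerPPrimeCore 2 with hθ
  obtain ⟨hfam, -⟩ := CfsgLib.Signalizer.iSup_functor_spec hM.omegaZ_elementary hM.eight_le_card
    hM.isFunctor
  set W := ⨆ a : {a : G // a ∈ A ∧ a ≠ 1}, θ a with hW
  have hequiv : ∀ e : MulAut G, (∀ a ∈ A, e a ∈ A) → ∀ w ∈ W, e w ∈ W := by
    intro e he
    have h1 : W.map e.toMonoidHom ≤ W := by
      rw [hW, Subgroup.map_iSup]
      refine iSup_le fun a => ?_
      rw [hθ, CfsgLib.Components.centralizerPPrimeCore_map_equiv]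
      exact le_iSup (fun a : {a : G // a ∈ A ∧ a ≠ 1} => θ a)
        ⟨e a, he _ a.2.1, fun h => a.2.2 (e.injective (h.trans (map_one e).symm))⟩
    exact fun w hw => h1 ⟨w, hw, rfl⟩
  have hWinv : ∀ w ∈ W, φ w ∈ W := hequiv φ fun a ha => hM.apply_omegaZ ha
  set NS := Subgroup.normalizer ((S : Subgroup G) : Set G) with hNS
  have hNW : NS ≤ Subgroup.normalizer (W : Set G) := fun n hn =>
    mem_normalizer_of_conj (hequiv (MulAut.conj n) fun a ha => conj_mem_omegaZ hn ha)
  refine ⟨W ⊔ NS, fun htop => ?_, fun a ha ha1 => ?_⟩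
  · have hn : W.Normal := Subgroup.normalizer_eq_top_iff.1
      (top_le_iff.1 (htop.ge.trans (sup_le Subgroup.le_normalizer hNW)))
    rcases hM.normalInv W hn hWinv with h | h
    · rw [h, bot_sup_eq] at htop
      exact hM.sylNot htop
    · have h2 : ¬ 2 ∣ Nat.card W := CfsgLib.Signalizer.family_not_dvd hfam
      rw [h, Subgroup.card_top] at h2
      obtain ⟨⟨a, ha⟩, hne⟩ : ∃ a : A, a ≠ 1 := by
        haveI : Nontrivial A := (Subgroup.nontrivial_iff_ne_bot _).2 hM.omegaZ_ne_bot
        exact exists_ne 1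
      exact h2 ((orderOf_eq_prime ha.2 fun h => hne (Subtype.ext h)) ▸ orderOf_dvd_natCard a)
  · refine (hM.centralizer_decomp ha ha1).2.trans (sup_le ?_ le_sup_right)
    exact (le_iSup (fun a : {a : G // a ∈ A ∧ a ≠ 1} => θ a) ⟨a, ha, ha1⟩).trans le_sup_left

theorem false_of_minimal : False := by
  haveI : Fact (Nat.Prime 2) := ⟨Nat.prime_two⟩
  obtain ⟨M, hMtop, hMc⟩ := hM.exists_container
  set A := omegaZ (S : Subgroup G) with hA
  have hord : ∀ {e : G}, e ∈ A → e ≠ 1 → orderOf e = 2 := fun he he1 => orderOf_eq_prime he.2 he1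
  -- conjugates into `S` of elements of `A` lie in `A`
  have hclosed : ∀ e ∈ A, ∀ g, g * e * g⁻¹ ∈ (S : Subgroup G) → g * e * g⁻¹ ∈ A := by
    intro e he g hg
    obtain ⟨c, hcN, -, hce⟩ := hM.exists_fixed_fuse {e} (by rintro _ rfl; exact he.1) g
      (by rintro _ rfl; exact hg)
    rw [hce e rfl]
    exact conj_mem_omegaZ hcN he
  have key : ∀ x ∈ A, x ≠ 1 → ∀ y, IsConj (φ x) y → y ∈ M := by
    intro x hx hx1 y hy
    obtain ⟨g, hg⟩ := isConj_iff.1 hy
    have hxA' := hM.apply_omegaZ hx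
    have hb1 : φ x ≠ 1 := fun h => hx1 (φ.injective (h.trans (map_one φ).symm))
    have hyo : orderOf y = 2 := by
      rw [← hg, CfsgLib.Invol.orderOf_conj]
      exact hord hxA' hb1
    have hnc : ¬ IsConj x y := fun h => hM.not_isConj_apply hx hx1 (h.trans hy.symm)
    have hxx := CfsgLib.Invol.mul_self_eq_one (hord hx hx1)
    have hyy := CfsgLib.Invol.mul_self_eq_one hyo
    obtain ⟨hev, hko, hkx, hky⟩ :=
      CfsgLib.Invol.exists_middle_of_not_isConj (hord hx hx1) hyo hnc
    set k := (x * y) ^ (orderOf (x * y) / 2) with hk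
    obtain ⟨e, he, d, hd⟩ : ∃ e ∈ A, ∃ d, d * e * d⁻¹ = x * k := by
      by_cases h4 : 4 ∣ orderOf (x * y)
      · obtain ⟨d, -, hd⟩ := (CfsgLib.Invol.conj_middle_iff hxx hyy hev).2 h4
        exact ⟨x, hx, d, hd⟩
      · obtain ⟨m, hm⟩ := hev
        obtain ⟨t, ht⟩ : ∃ t, m = 2 * t + 1 := ⟨m / 2, by
          rw [hm] at h4
          omega⟩
        refine ⟨φ x, hxA', (x * y) ^ (-(t : ℤ)) * g, ?_⟩
        have hk' : k = (x * y) ^ (2 * (t : ℤ) + 1) := by
          rw [hk, show orderOf (x * y) / 2 = m by omega, ← zpow_natCast, ht]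
          norm_num
        calc (x * y) ^ (-(t : ℤ)) * g * φ x * ((x * y) ^ (-(t : ℤ)) * g)⁻¹
            = (x * y) ^ (-(t : ℤ)) * (g * φ x * g⁻¹) * ((x * y) ^ (-(t : ℤ)))⁻¹ := by group
          _ = (x * y) ^ (-(t : ℤ)) * x * (x * y) ^ ((1 : ℤ) + t) := by
              have e : ∀ a b : G, a * x * ((x * y) * b) = a * y * b := fun a b => by
                rw [← mul_assoc, mul_assoc a x (x * y), ← mul_assoc x x y, hxx, one_mul]
              rw [hg, ← zpow_neg, neg_neg, zpow_add, zpow_one, e]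
          _ = x * k := by
              rw [CfsgLib.Invol.zpow_mul_of_inverts (CfsgLib.Invol.conj_prod hxx hyy), neg_neg,
                mul_assoc, ← zpow_add, hk']
              congr 2
              ring
    set z := x * k with hz
    have hzH : z ∈ Subgroup.centralizer ({x} : Set G) :=
      Subgroup.mem_centralizer_singleton_iff.2 ((Commute.refl x).mul_left hkx).eq
    have hSH : (S : Subgroup G) ≤ Subgroup.centralizer ({x} : Set G) :=
      le_centralizer_of_mem_omegaZ hx
    have hz2 : z ^ 2 = 1 := by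
      rw [← hd, conj_pow, he.2]
      group
    have hzp : IsPGroup 2 (Subgroup.zpowers (⟨z, hzH⟩ : Subgroup.centralizer ({x} : Set G))) := by
      obtain ⟨j, -, hj⟩ := (Nat.dvd_prime_pow Nat.prime_two).1
        (show orderOf (⟨z, hzH⟩ : Subgroup.centralizer ({x} : Set G)) ∣ 2 ^ 1 by
          rw [Subgroup.orderOf_mk, pow_one]
          exact orderOf_dvd_of_pow_eq_one hz2)
      exact IsPGroup.of_card (n := j) (by rw [Nat.card_zpowers, hj])
    obtain ⟨R, hR⟩ := hzp.exists_le_sylow
    obtain ⟨c, hc⟩ := MulAction.exists_smul_eq (Subgroup.centralizer ({x} : Set G)) R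
      (S.subtype hSH)
    have hzS : (c : G) * z * (c : G)⁻¹ ∈ (S : Subgroup G) := by
      have h1 : c * ⟨z, hzH⟩ * c⁻¹ ∈ ((c • R : Sylow 2 _) : Subgroup _) :=
        ⟨_, hR (Subgroup.mem_zpowers _), rfl⟩
      rw [hc, Sylow.coe_subtype] at h1
      exact h1
    have hzA : (c : G) * z * (c : G)⁻¹ ∈ A := by
      have := hclosed e he ((c : G) * d) (by
        rwa [show (c : G) * d * e * ((c : G) * d)⁻¹ = c * (d * e * d⁻¹) * (c : G)⁻¹ by group, hd])
      rwa [show (c : G) * d * e * ((c : G) * d)⁻¹ = c * (d * e * d⁻¹) * (c : G)⁻¹ by group, hd]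
        at this
    have hcx : (c : G) * x * (c : G)⁻¹ = x := by
      rw [Subgroup.mem_centralizer_singleton_iff.1 c.2, mul_inv_cancel_right]
    have hkA : (c : G) * k * (c : G)⁻¹ ∈ A := by
      rw [show (c : G) * k * (c : G)⁻¹ =
        ((c : G) * x * (c : G)⁻¹)⁻¹ * ((c : G) * z * (c : G)⁻¹) by rw [hz]; group, hcx]
      exact mul_mem (inv_mem hx) hzA
    have hk1 : (c : G) * k * (c : G)⁻¹ ≠ 1 := fun h => by
      rw [conj_eq_one_iff] at h
      rw [h, orderOf_one] at hko
      norm_num at hko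
    have hcM : (c : G) ∈ M := hMc x hx hx1 c.2
    have hyc : (c : G) * y * (c : G)⁻¹ ∈ M := hMc _ hkA hk1
      (Subgroup.mem_centralizer_singleton_iff.2 (hky.map (MulAut.conj (c : G))).symm.eq)
    rw [show y = (c : G)⁻¹ * ((c : G) * y * (c : G)⁻¹) * c by group]
    exact mul_mem (mul_mem (inv_mem hcM) hyc) hcM
  obtain ⟨⟨a, ha⟩, hne⟩ : ∃ a : A, a ≠ 1 := by
    haveI : Nontrivial A := (Subgroup.nontrivial_iff_ne_bot _).2 hM.omegaZ_ne_bot
    exact exists_ne 1
  set N := Subgroup.normalClosure (A : Set G) with hN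
  have hNM : N ≤ M := by
    refine (Subgroup.closure_le _).2 fun y hy => ?_
    obtain ⟨e, he, hey⟩ := Group.mem_conjugatesOfSet_iff.1 hy
    by_cases he1 : e = 1
    · subst he1
      rw [isConj_one_right.1 hey]
      exact one_mem _
    · refine key (φ (φ e)) (hM.apply_omegaZ (hM.apply_omegaZ he)) (fun h => he1 ?_) y
        (by rwa [hM.tri])
      rw [← hM.tri e, h, map_one]
  have hNinv : ∀ g ∈ N, φ g ∈ N := by
    have h1 : N ≤ N.comap φ.toMonoidHom := by
      haveI : (N.comap φ.toMonoidHom).Normal :=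
        Subgroup.Normal.comap Subgroup.normalClosure_normal _
      exact Subgroup.normalClosure_le_normal fun e he =>
        Subgroup.subset_normalClosure (hM.apply_omegaZ he)
    exact fun g hg => h1 hg
  rcases hM.normalInv N Subgroup.normalClosure_normal hNinv with h | h
  · have h1 : a ∈ (⊥ : Subgroup G) := h ▸ Subgroup.subset_normalClosure ha
    exact hne (Subtype.ext (Subgroup.mem_bot.1 h1))
  · exact hMtop (top_le_iff.1 (h ▸ hNM))

end IsMinimal

/-- The solvability theorem, from the solvability of groups of odd order. -/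
theorem isSolvable_of_fix (hFT : ∀ (H : Type u) [Group H] [Finite H], Odd (Nat.card H) →
    Group.IsSolvable H) : ∀ (n : ℕ) (G : Type u) [Group G] [Finite G], Nat.card G = n →
      ∀ φ : MulAut G, IsTri φ → ¬ 3 ∣ Nat.card G → (∀ g, φ g = g → Odd (orderOf g)) →
        (∀ a b, φ a = a → φ b = b → a * b = b * a) → Group.IsSolvable G := by
  intro n
  induction n using Nat.strong_induction_on with
  | _ n ih =>
  intro G _ _ hn φ hφ h3 hodd hcomm
  haveI : Fact (Nat.Prime 2) := ⟨Nat.prime_two⟩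
  by_contra hns
  have hsub : ∀ H : Subgroup G, H ≠ ⊤ → (∀ g ∈ H, φ g ∈ H) → Group.IsSolvable H := by
    intro H hH hinv
    refine ih (Nat.card H) (hn ▸ lt_of_le_of_ne (Finite.card_subtype_le _) fun h =>
      hH (Subgroup.eq_top_of_card_eq H h)) H rfl (resAut φ H hinv) (resAut_isTri hφ H hinv)
      (fun h => h3 (h.trans (Subgroup.card_subgroup_dvd_card H))) (resAut_fix_odd hodd H hinv)
      fun a b ha hb => Subtype.ext ?_
    exact hcomm a b (congrArg Subtype.val ha) (congrArg Subtype.val hb)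
  have hbig : ∀ N : Subgroup G, N.Normal → (∀ g ∈ N, φ g ∈ N) → N = ⊥ ∨ N = ⊤ := by
    intro N hN hinv
    by_contra hcon
    push Not at hcon
    haveI := hN
    haveI := hsub N hcon.2 hinv
    haveI : Group.IsSolvable (G ⧸ N) := by
      refine ih (Nat.card (G ⧸ N)) ?_ (G ⧸ N) rfl (quotAut φ N hinv) (quotAut_isTri hφ N hinv)
        (not_three_dvd_quot h3 N) (fun y hy => quot_fix_odd hφ h3 hodd N hinv y hy)
        fun y z hy hz => ?_
      · rw [← hn, N.card_eq_card_quotient_mul_card_subgroup]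
        refine lt_mul_of_one_lt_right Nat.card_pos ?_
        exact (Subgroup.one_lt_card_iff_ne_bot N).2 hcon.1
      · obtain ⟨a, ha, rfl⟩ := exists_fixed_lift hφ h3 N hinv hy
        obtain ⟨b, hb, rfl⟩ := exists_fixed_lift hφ h3 N hinv hz
        rw [← QuotientGroup.mk_mul, ← QuotientGroup.mk_mul, hcomm a b ha hb]
    exact hns ((Group.isSolvable_iff_subgroup_quotient N).2 ⟨inferInstance, inferInstance⟩)
  have heven : 2 ∣ Nat.card G := by
    by_contra h
    exact hns (hFT G (Nat.not_even_iff_odd.1 fun he => h (even_iff_two_dvd.1 he)))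
  obtain ⟨S, -, hS⟩ := exists_smul_invariant_sylow (A := Subgroup.zpowers φ) (K := G)
    (hφ.coprime_card h3) (Or.inl (Group.isSolvable_of_comm fun a b => mul_comm' a b)) 2 (U := ⊥)
    IsPGroup.of_bot (fun a u hu => by
      rw [Subgroup.mem_bot] at hu
      rw [hu, smul_one]
      exact one_mem _)
  have hSinv : ∀ g ∈ (S : Subgroup G), φ g ∈ (S : Subgroup G) := fun g hg =>
    hS ⟨φ, Subgroup.mem_zpowers φ⟩ g hg
  have hSnot : Subgroup.normalizer ((S : Subgroup G) : Set G) ≠ ⊤ := fun h => by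
    rcases hbig _ (Subgroup.normalizer_eq_top_iff.1 h) hSinv with h1 | h1
    · exact S.ne_bot_of_dvd_card heven h1
    · apply hns
      haveI := S.isPGroup'.isNilpotent
      exact Group.isSolvable_of_surjective (f := (S : Subgroup G).subtype)
        fun g => ⟨⟨g, h1 ▸ Subgroup.mem_top g⟩, rfl⟩
  have hZ : Subgroup.center G = ⊥ := by
    rcases hbig (Subgroup.center G) inferInstance (apply_mem_of_characteristic φ _) with h | h
    · exact h
    · exact absurd (Group.isSolvable_of_comm fun a b =>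
        Subgroup.mem_center_iff.1 (h ▸ Subgroup.mem_top b : b ∈ Subgroup.center G) a) hns
  exact IsMinimal.false_of_minimal (φ := φ) (S := S)
    ⟨hφ, h3, hodd, hcomm, hbig, hsub, hFT, hSinv, hSnot, hZ⟩

end CfsgLib.FpfSymThree
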