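import Cfsg.Agent.Lib.FpfSymThree.Fusion
import Cfsg.Agent.Lib.FpfSymThree.Local
import Cfsg.Agent.Lib.TwoFusion.RankTwoTrans.FpfThreeClass
import Cfsg.Agent.Lib.Invol.GlaubermanZStar

/-!
The configuration of a minimal counterexample: centre of a Sylow subgroup, fusion, centralizers.
-/

set_option autoImplicit false
set_option linter.style.haveILetI false

universe u

namespace CfsgLib.FpfSymThree

open CfsgLib.Solvable
open scoped commutatorElement

variable {G : Type u} [Group G] [Finite G]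

/-- A minimal configuration. -/
structure IsMinimal (φ : MulAut G) (S : Sylow 2 G) : Prop where
  tri : IsTri φ
  three : ¬ 3 ∣ Nat.card G
  fixOdd : ∀ g, φ g = g → Odd (orderOf g)
  fixComm : ∀ a b, φ a = a → φ b = b → a * b = b * a
  normalInv : ∀ N : Subgroup G, N.Normal → (∀ g ∈ N, φ g ∈ N) → N = ⊥ ∨ N = ⊤
  subSolv : ∀ H : Subgroup G, H ≠ ⊤ → (∀ g ∈ H, φ g ∈ H) → Group.IsSolvable H
  oddSolv : ∀ (H : Type u) [Group H] [Finite H], Odd (Nat.card H) → Group.IsSolvable H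
  sylInv : ∀ g ∈ (S : Subgroup G), φ g ∈ (S : Subgroup G)
  sylNot : Subgroup.normalizer ((S : Subgroup G) : Set G) ≠ ⊤
  centreBot : Subgroup.center G = ⊥

theorem mem_normalizer_of_conj {J : Subgroup G} {g : G} (h : ∀ y ∈ J, g * y * g⁻¹ ∈ J) :
    g ∈ Subgroup.normalizer (J : Set G) := by
  have he : J.map (MulAut.conj g).toMonoidHom = J := Subgroup.eq_of_le_of_card_ge
    (Subgroup.map_le_iff_le_comap.2 h)
    (Subgroup.card_map_of_injective (f := (MulAut.conj g).toMonoidHom)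
      (MulAut.conj g).injective).ge
  rw [Subgroup.mem_normalizer_iff]
  refine fun y => ⟨h y, fun hy => ?_⟩
  rw [← he] at hy
  obtain ⟨z, hz, hzy⟩ := hy
  rw [← (MulAut.conj g).injective hzy]
  exact hz

theorem apply_mem_normalizer {φ : MulAut G} {J : Subgroup G} (hJ : ∀ g ∈ J, φ g ∈ J) {n : G}
    (hn : n ∈ Subgroup.normalizer (J : Set G)) : φ n ∈ Subgroup.normalizer (J : Set G) := by
  have he : J.map φ.toMonoidHom = J := Subgroup.eq_of_le_of_card_ge
    (Subgroup.map_le_iff_le_comap.2 hJ)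
    (Subgroup.card_map_of_injective (f := φ.toMonoidHom) φ.injective).ge
  refine mem_normalizer_of_conj fun y hy => ?_
  rw [← he] at hy
  obtain ⟨z, hz, rfl⟩ := hy
  show φ n * φ z * (φ n)⁻¹ ∈ J
  rw [← map_inv, ← map_mul, ← map_mul]
  exact hJ _ ((Subgroup.mem_normalizer_iff.1 hn z).1 hz)

theorem apply_mem_centralizer {φ : MulAut G} {s : Set G}
    (hs : ∀ x ∈ s, ∃ y, (∀ g ∈ Subgroup.centralizer s, y * g = g * y) ∧ φ y = x) {g : G}
    (hg : g ∈ Subgroup.centralizer s) : φ g ∈ Subgroup.centralizer s := by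
  refine Subgroup.mem_centralizer_iff.2 fun x hx => ?_
  obtain ⟨y, hy, rfl⟩ := hs x hx
  rw [← map_mul, ← map_mul, hy g hg]

/-- The involutions of the centre of `S`, with the identity. -/
def omegaZ (S : Subgroup G) : Subgroup G where
  carrier := {a | a ∈ zSub S ∧ a ^ 2 = 1}
  one_mem' := ⟨one_mem _, one_pow _⟩
  mul_mem' := fun {a b} ha hb => ⟨mul_mem ha.1 hb.1, by
    rw [Commute.mul_pow ((Subgroup.mem_centralizer_iff.1 hb.1.2 a ha.1.1)), ha.2, hb.2, one_mul]⟩
  inv_mem' := fun {a} ha => ⟨inv_mem ha.1, by rw [inv_pow, ha.2, inv_one]⟩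

theorem omegaZ_le (S : Subgroup G) : omegaZ S ≤ S := fun _ ha => ha.1.1

theorem omegaZ_isElem (S : Subgroup G) : IsElemTwo (omegaZ S) :=
  ⟨fun _ hx _ hy => Subgroup.mem_centralizer_iff.1 hy.1.2 _ hx.1.1, fun _ hx => hx.2⟩

theorem le_centralizer_of_mem_omegaZ {S : Subgroup G} {a : G} (ha : a ∈ omegaZ S) :
    S ≤ Subgroup.centralizer ({a} : Set G) := fun s hs =>
  Subgroup.mem_centralizer_singleton_iff.2 (Subgroup.mem_centralizer_iff.1 ha.1.2 s hs)

theorem conj_mem_zSub {S : Subgroup G} {n z : G} (hn : n ∈ Subgroup.normalizer (S : Set G))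
    (hz : z ∈ zSub S) : n * z * n⁻¹ ∈ zSub S := by
  refine ⟨(Subgroup.mem_normalizer_iff.1 hn z).1 hz.1, Subgroup.mem_centralizer_iff.2 fun s hs => ?_⟩
  have h1 : n⁻¹ * s * n ∈ S := by
    have := (Subgroup.mem_normalizer_iff.1 (inv_mem hn) s).1 hs
    rwa [inv_inv] at this
  calc s * (n * z * n⁻¹) = n * ((n⁻¹ * s * n) * z) * n⁻¹ := by group
    _ = n * (z * (n⁻¹ * s * n)) * n⁻¹ := by rw [Subgroup.mem_centralizer_iff.1 hz.2 _ h1]
    _ = n * z * n⁻¹ * s := by group

theorem conj_mem_omegaZ {S : Subgroup G} {n a : G} (hn : n ∈ Subgroup.normalizer (S : Set G))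
    (ha : a ∈ omegaZ S) : n * a * n⁻¹ ∈ omegaZ S :=
  ⟨conj_mem_zSub hn ha.1, by rw [conj_pow, ha.2]; group⟩

variable {φ : MulAut G} {S : Sylow 2 G}

namespace IsMinimal

variable (hM : IsMinimal φ S)
include hM

theorem fpf {y : G} (hy : y ∈ (S : Subgroup G)) (h : φ y = y) : y = 1 :=
  eq_one_of_odd_mem_twoGroup S.isPGroup' hy (hM.fixOdd y h)

theorem prod_eq_one {a : G} (ha : a ∈ (S : Subgroup G)) : a * φ a * φ (φ a) = 1 :=
  congrArg Subtype.val (CfsgLib.StdForm.fpf_prod_eq_one (ρ := resAut φ _ hM.sylInv)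
    (fun y => Subtype.ext (hM.tri y))
    (fun y hy => Subtype.ext (hM.fpf y.2 (congrArg Subtype.val hy))) ⟨a, ha⟩)

theorem classTwo : ClassTwo (S : Subgroup G) := by
  intro a ha b hb c hc
  have h := Subgroup.mem_center_iff.1 (CfsgLib.TwoFusion.RankTwo.commutator_mem_center
    S.isPGroup' (ρ := resAut φ _ hM.sylInv) (fun y => Subtype.ext (hM.tri y))
    (fun y hy => Subtype.ext (hM.fpf y.2 (congrArg Subtype.val hy))) ⟨a, ha⟩ ⟨b, hb⟩) ⟨c, hc⟩
  exact (congrArg Subtype.val h).symm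

theorem apply_zSub {z : G} (hz : z ∈ zSub (S : Subgroup G)) : φ z ∈ zSub (S : Subgroup G) := by
  refine ⟨hM.sylInv z hz.1, Subgroup.mem_centralizer_iff.2 fun s hs => ?_⟩
  have h1 := Subgroup.mem_centralizer_iff.1 hz.2 _ (hM.sylInv _ (hM.sylInv s hs))
  have h2 := congrArg φ h1
  rwa [map_mul, map_mul, hM.tri] at h2

theorem apply_omegaZ {a : G} (ha : a ∈ omegaZ (S : Subgroup G)) :
    φ a ∈ omegaZ (S : Subgroup G) :=
  ⟨hM.apply_zSub ha.1, by rw [← map_pow, ha.2, map_one]⟩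

theorem syl_ne_bot : (S : Subgroup G) ≠ ⊥ := fun h => hM.sylNot (by
  rw [h]
  exact Subgroup.normalizer_eq_top _)

theorem omegaZ_ne_bot : omegaZ (S : Subgroup G) ≠ ⊥ := by
  haveI : Fact (Nat.Prime 2) := ⟨Nat.prime_two⟩
  haveI : Nontrivial (S : Subgroup G) := (Subgroup.nontrivial_iff_ne_bot _).2 hM.syl_ne_bot
  haveI : Nontrivial (Subgroup.center (S : Subgroup G)) := S.isPGroup'.center_nontrivial
  obtain ⟨k, hk⟩ := IsPGroup.iff_card.1
    (S.isPGroup'.to_subgroup (Subgroup.center (S : Subgroup G)))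
  have hk0 : k ≠ 0 := by
    rintro rfl
    rw [pow_zero] at hk
    exact absurd hk (Finite.one_lt_card).ne'
  obtain ⟨z, hz⟩ := exists_prime_orderOf_dvd_card' 2
    (G := Subgroup.center (S : Subgroup G)) (hk ▸ dvd_pow_self 2 hk0)
  intro h
  have hmem : ((z : (S : Subgroup G)) : G) ∈ omegaZ (S : Subgroup G) := by
    refine ⟨⟨z.1.2, Subgroup.mem_centralizer_iff.2 fun s hs => ?_⟩, ?_⟩
    · exact congrArg Subtype.val (Subgroup.mem_center_iff.1 z.2 ⟨s, hs⟩)
    · have h2 : z ^ 2 = 1 := orderOf_dvd_iff_pow_eq_one.1 (dvd_of_eq hz)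
      exact congrArg (fun w : Subgroup.center (S : Subgroup G) => ((w : (S : Subgroup G)) : G)) h2
  rw [h, Subgroup.mem_bot] at hmem
  have : z = 1 := Subtype.ext (Subtype.ext hmem)
  rw [this, orderOf_one] at hz
  norm_num at hz

theorem apply_normalizer {n : G} (hn : n ∈ Subgroup.normalizer ((S : Subgroup G) : Set G)) :
    φ n ∈ Subgroup.normalizer ((S : Subgroup G) : Set G) :=
  apply_mem_normalizer hM.sylInv hn

theorem normalizer_eq_bot_or_ne_top {J : Subgroup G} (hJ : ∀ g ∈ J, φ g ∈ J) (hJtop : J ≠ ⊤)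
    (hJbot : J ≠ ⊥) : Subgroup.normalizer (J : Set G) ≠ ⊤ := fun h => by
  rcases hM.normalInv J (Subgroup.normalizer_eq_top_iff.1 h) hJ with h1 | h1
  exacts [hJbot h1, hJtop h1]

theorem syl_ne_top : (S : Subgroup G) ≠ ⊤ := fun h => hM.sylNot (by
  rw [eq_top_iff]
  intro g _
  exact Subgroup.le_normalizer (h ▸ Subgroup.mem_top g : g ∈ (S : Subgroup G)))

/-- The good subgroups containing all maximal elementary abelian subgroups. -/
theorem hyp_J (Q : Subgroup G) (hQS : Q ≤ (S : Subgroup G))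
    (hall : ∀ A, IsMaxElem (S : Subgroup G) A → A ≤ Q) : IsGood (S : Subgroup G) Q := by
  set J : Subgroup G := ⨆ A : {A // IsMaxElem (S : Subgroup G) A}, (A : Subgroup G) with hJdef
  haveI : Nonempty {B : Subgroup G // B ≤ (S : Subgroup G) ∧ IsElemTwo B} :=
    ⟨⟨omegaZ (S : Subgroup G), omegaZ_le _, omegaZ_isElem _⟩⟩
  obtain ⟨⟨A₀, hA₀S, hA₀e⟩, hA₀max⟩ := Finite.exists_max
    (fun B : {B : Subgroup G // B ≤ (S : Subgroup G) ∧ IsElemTwo B} =>
      Nat.card (B : Subgroup G))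
  have hA₀ : IsMaxElem (S : Subgroup G) A₀ :=
    ⟨hA₀S, hA₀e, fun B h1 h2 => hA₀max ⟨B, h1, h2⟩⟩
  have hJle : ∀ {K : Subgroup G}, (∀ A, IsMaxElem (S : Subgroup G) A → A ≤ K) → J ≤ K :=
    fun h => iSup_le fun A => h A A.2
  have hJS : J ≤ S := hJle fun A hA => hA.1
  have hAJ : ∀ A, IsMaxElem (S : Subgroup G) A → A ≤ J :=
    fun A hA => le_iSup (fun A : {A // IsMaxElem (S : Subgroup G) A} => (A : Subgroup G)) ⟨A, hA⟩
  have hmap : ∀ (e : MulAut G) (A : Subgroup G), IsMaxElem (S : Subgroup G) A →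
      (∀ x ∈ A, e x ∈ (S : Subgroup G)) → IsMaxElem (S : Subgroup G) (A.map e.toMonoidHom) := by
    intro e A hA hAS
    refine ⟨?_, ⟨?_, ?_⟩, fun B h1 h2 => ?_⟩
    · rintro _ ⟨x, hx, rfl⟩
      exact hAS x hx
    · rintro _ ⟨x, hx, rfl⟩ _ ⟨y, hy, rfl⟩
      rw [← map_mul, ← map_mul, hA.2.1.1 x hx y hy]
    · rintro _ ⟨x, hx, rfl⟩
      rw [← map_pow, hA.2.1.2 x hx, map_one]
    · rw [Subgroup.card_map_of_injective (f := e.toMonoidHom) e.injective]
      exact hA.2.2 B h1 h2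
  have hJmap : ∀ e : MulAut G, (∀ A, IsMaxElem (S : Subgroup G) A → ∀ x ∈ A,
      e x ∈ (S : Subgroup G)) → ∀ y ∈ J, e y ∈ J := by
    intro e he
    have h1 : J.map e.toMonoidHom ≤ J := by
      rw [hJdef, Subgroup.map_iSup]
      exact iSup_le fun A => hAJ _ (hmap e A A.2 (he A A.2))
    exact fun y hy => h1 ⟨y, hy, rfl⟩
  have hJinv : ∀ g ∈ J, φ g ∈ J := hJmap φ fun A hA x hx => hM.sylInv x (hA.1 hx)
  set M := Subgroup.normalizer (J : Set G) with hMdef
  have hNQ : Subgroup.normalizer (Q : Set G) ≤ M := fun g hg =>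
    mem_normalizer_of_conj (hJmap (MulAut.conj g) fun A hA x hx =>
      hQS ((Subgroup.mem_normalizer_iff.1 hg x).1 (hall A hA hx)))
  have hSM : (S : Subgroup G) ≤ M := fun s hs =>
    mem_normalizer_of_conj (hJmap (MulAut.conj s) fun A hA x hx =>
      mul_mem (mul_mem hs (hA.1 hx)) (inv_mem hs))
  have hMtop : M ≠ ⊤ := by
    refine hM.normalizer_eq_bot_or_ne_top hJinv
      (fun h => hM.syl_ne_top (top_le_iff.1 (h ▸ hJS))) fun h => hM.omegaZ_ne_bot ?_
    have h1 := hA₀.2.2 _ (omegaZ_le _) (omegaZ_isElem (S : Subgroup G))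
    have h2 : A₀ = ⊥ := le_bot_iff.1 (h ▸ hAJ A₀ hA₀)
    rw [h2, Subgroup.card_bot] at h1
    exact Subgroup.eq_bot_of_card_le _ h1
  have hMinv : ∀ g ∈ M, φ g ∈ M := fun g hg => apply_mem_normalizer hJinv hg
  haveI := hM.subSolv M hMtop hMinv
  have hidx := (solvable_case (resAut_isTri hM.tri M hMinv)
    (fun h => hM.three (h.trans (Subgroup.card_subgroup_dvd_card M)))
    (resAut_fix_odd hM.fixOdd M hMinv)).1
  intro g hg
  obtain ⟨o, ho, n, hn, -, rfl⟩ := exists_core_normalizer S hSM hidx (hNQ hg)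
  have hcomm : ∀ q ∈ Q, o * (n * q * n⁻¹) = n * q * n⁻¹ * o := fun q hq =>
    coreIn_commute S hSM ho ((Subgroup.mem_normalizer_iff.1 hn q).1 (hQS hq)) (by
      have := hQS ((Subgroup.mem_normalizer_iff.1 hg q).1 hq)
      rwa [show o * n * q * (o * n)⁻¹ = o * (n * q * n⁻¹) * o⁻¹ by group] at this)
  have hnQ : n ∈ Subgroup.normalizer (Q : Set G) := mem_normalizer_of_conj fun q hq => by
    have := (Subgroup.mem_normalizer_iff.1 hg q).1 hq
    rwa [show o * n * q * (o * n)⁻¹ = o * (n * q * n⁻¹) * o⁻¹ by group, hcomm q hq,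
      mul_inv_cancel_right] at this
  refine mul_mem (Subgroup.mem_sup_left ?_) (Subgroup.mem_sup_right ⟨hn, hnQ⟩)
  refine Subgroup.mem_centralizer_iff.2 fun q hq => ?_
  have h1 : n⁻¹ * q * n ∈ Q := by
    have := (Subgroup.mem_normalizer_iff.1 (inv_mem hnQ) q).1 hq
    rwa [inv_inv] at this
  have h2 := hcomm _ h1
  rw [show n * (n⁻¹ * q * n) * n⁻¹ = q by group] at h2
  exact h2.symm

/-- On the centre of `S`, the normalizer of `S` acts as its fixed points. -/
theorem exists_fixed_act {n : G} (hn : n ∈ Subgroup.normalizer ((S : Subgroup G) : Set G)) :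
    ∃ c ∈ Subgroup.normalizer ((S : Subgroup G) : Set G), φ c = c ∧
      ∀ z ∈ zSub (S : Subgroup G), n * z * n⁻¹ = c * z * c⁻¹ := by
  haveI : Fact (Nat.Prime 2) := ⟨Nat.prime_two⟩
  set M := Subgroup.normalizer ((S : Subgroup G) : Set G) with hMdef
  have hinv : ∀ g ∈ M, φ g ∈ M := fun g hg => hM.apply_normalizer hg
  haveI := hM.subSolv M hM.sylNot hinv
  have hsup := (solvable_case (resAut_isTri hM.tri M hinv)
    (fun h => hM.three (h.trans (Subgroup.card_subgroup_dvd_card M)))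
    (resAut_fix_odd hM.fixOdd M hinv)).2
  haveI := pPrimePCore_normal 2 M
  have hmem : (⟨n, hn⟩ : M) ∈ Cfsg.pPrimePCore 2 M ⊔ fixSub (resAut φ M hinv) :=
    hsup ▸ Subgroup.mem_top _
  rw [← SetLike.mem_coe, Subgroup.normal_mul] at hmem
  obtain ⟨k, hk, c, hc, hkc⟩ := hmem
  refine ⟨(c : G), c.2, congrArg Subtype.val hc, fun z hz => ?_⟩
  have hK : Cfsg.pPrimePCore 2 M ≤
      (Subgroup.centralizer ((zSub (S : Subgroup G) : Subgroup G) : Set G)).subgroupOf M := by
    refine (pPrimePCore_le (S.subtype Subgroup.le_normalizer)).trans (sup_le ?_ ?_)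
    · intro o ho
      refine Subgroup.mem_centralizer_iff.2 fun w hw => ?_
      exact (coreIn_commute S Subgroup.le_normalizer ⟨o, ho, rfl⟩ hw.1
        ((Subgroup.mem_normalizer_iff.1 o.2 w).1 hw.1)).symm
    · rw [Sylow.coe_subtype]
      intro s hs
      refine Subgroup.mem_centralizer_iff.2 fun w hw => ?_
      exact (Subgroup.mem_centralizer_iff.1 hw.2 _ hs).symm
  have h1 : (c : G) * z * (c : G)⁻¹ ∈ zSub (S : Subgroup G) := conj_mem_zSub c.2 hz
  have h2 := Subgroup.mem_centralizer_iff.1 (hK hk) _ h1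
  calc n * z * n⁻¹ = (k : G) * (c : G) * z * ((k : G) * (c : G))⁻¹ := by
        rw [show (k : G) * (c : G) = n from congrArg Subtype.val hkc]
    _ = ((k : G) * ((c : G) * z * (c : G)⁻¹)) * (k : G)⁻¹ := by group
    _ = _ := by
        rw [show (k : G) * ((c : G) * z * (c : G)⁻¹) = (c : G) * z * (c : G)⁻¹ * (k : G) from
          h2.symm]
        group

/-- Fusion of central elements is done by fixed points. -/
theorem exists_fixed_fuse (E : Set G) (hE : E ⊆ zSub (S : Subgroup G)) (g : G)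
    (hg : ∀ e ∈ E, g * e * g⁻¹ ∈ (S : Subgroup G)) :
    ∃ c ∈ Subgroup.normalizer ((S : Subgroup G) : Set G), φ c = c ∧
      ∀ e ∈ E, g * e * g⁻¹ = c * e * c⁻¹ := by
  obtain ⟨n, hn, hne⟩ := exists_normalizer_fuse hM.three S hM.classTwo
    (fun Q hQS _ _ hall => hM.hyp_J Q hQS hall) E hE g hg
  obtain ⟨c, hc, hfix, hce⟩ := hM.exists_fixed_act hn
  exact ⟨c, hc, hfix, fun e he => by rw [← hne e he, hce e (hE he)]⟩

theorem apply_ne {a : G} (ha : a ∈ omegaZ (S : Subgroup G)) (ha1 : a ≠ 1) : φ a ≠ a :=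
  fun h => ha1 (hM.fpf (omegaZ_le _ ha) h)

/-- An element is not sent to its image by a fixed point. -/
theorem conj_ne_apply {a : G} (ha : a ∈ omegaZ (S : Subgroup G)) (ha1 : a ≠ 1) {c : G}
    (hc : φ c = c) : c * a * c⁻¹ ≠ φ a := by
  intro h
  have h2 : φ (φ a) = c * (c * a * c⁻¹) * c⁻¹ := by
    rw [← h, map_mul, map_mul, map_inv, hc, h]
  have h3 : a = c * (c * (c * a * c⁻¹) * c⁻¹) * c⁻¹ := by
    conv_lhs => rw [← hM.tri a, h2]
    rw [map_mul, map_mul, map_inv, hc, map_mul, map_mul, map_inv, hc, ← h]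
  have hcomm : Commute (c ^ 3) a := by
    show c ^ 3 * a = a * c ^ 3
    conv_rhs => rw [h3]
    rw [pow_three]
    group
  have hc3 : c ∈ Subgroup.zpowers (c ^ 3) := by
    rw [← mem_powers_iff_mem_zpowers]
    refine Submonoid.mem_powers_iff _ _ |>.2 (exists_pow_eq_self_of_coprime ?_)
    exact ((Nat.prime_three.coprime_iff_not_dvd).2 hM.three).coprime_dvd_right (orderOf_dvd_natCard c)
  obtain ⟨k, hk⟩ := Subgroup.mem_zpowers_iff.1 hc3
  have hca : Commute c a := hk ▸ hcomm.zpow_left k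
  rw [hca.eq, mul_inv_cancel_right] at h
  exact hM.apply_ne ha ha1 h.symm

theorem not_isConj_apply {a : G} (ha : a ∈ omegaZ (S : Subgroup G)) (ha1 : a ≠ 1) :
    ¬ IsConj a (φ a) := by
  intro h
  obtain ⟨g, hg⟩ := isConj_iff.1 h
  obtain ⟨c, -, hc, hce⟩ := hM.exists_fixed_fuse {a} (by rintro _ rfl; exact ha.1) g
    (by rintro _ rfl; rw [hg]; exact omegaZ_le _ (hM.apply_omegaZ ha))
  exact hM.conj_ne_apply ha ha1 hc (by rw [← hce a rfl, hg])

/-- Some other conjugate of a central involution lies in `S`. -/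
theorem exists_conj_ne {a : G} (ha : a ∈ omegaZ (S : Subgroup G)) (ha1 : a ≠ 1) :
    ∃ c, φ c = c ∧ c * a * c⁻¹ ∈ omegaZ (S : Subgroup G) ∧ c * a * c⁻¹ ≠ a := by
  by_contra hcon
  push Not at hcon
  obtain ⟨N, hNn, hNodd, hN⟩ := CfsgLib.Invol.zStar_sylow S a
    (orderOf_eq_prime ha.2 ha1) fun g hg => by
      obtain ⟨c, hcN, hc, hce⟩ := hM.exists_fixed_fuse {a} (by rintro _ rfl; exact ha.1) g
        (by rintro _ rfl; exact hg)
      rw [hce a rfl]
      exact hcon c hc (conj_mem_omegaZ hcN ha)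
  haveI : Fact (Nat.Prime 2) := ⟨Nat.prime_two⟩
  have hO : Cfsg.pPrimeCore 2 G = ⊥ := by
    rcases hM.normalInv _ (pPrimeCore_normal 2 G) (pPrimeCore_apply_mem 2 φ) with h | h
    · exact h
    · exfalso
      have h1 := pPrimeCore_card_coprime 2 G
      rw [h, Subgroup.card_top] at h1
      have h2 : orderOf a ∣ Nat.card G := orderOf_dvd_natCard a
      rw [orderOf_eq_prime ha.2 ha1] at h2
      exact Nat.prime_two.not_dvd_one (h1 ▸ Nat.dvd_gcd h2 dvd_rfl)
  have hN0 : N ≤ ⊥ := hO ▸ le_pPrimeCore hNn (Nat.coprime_two_right.2 hNodd)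
  have : a ∈ Subgroup.center G := Subgroup.mem_center_iff.2 fun g => by
    have h1 := hN0 (hN g)
    rw [Subgroup.mem_bot, mul_inv_eq_one, mul_inv_eq_iff_eq_mul] at h1
    exact h1.symm
  rw [hM.centreBot, Subgroup.mem_bot] at this
  exact ha1 this

theorem eight_le_card : 2 ^ 3 ≤ Nat.card (omegaZ (S : Subgroup G)) := by
  classical
  haveI : Fact (Nat.Prime 2) := ⟨Nat.prime_two⟩
  haveI : Nontrivial (omegaZ (S : Subgroup G)) :=
    (Subgroup.nontrivial_iff_ne_bot _).2 hM.omegaZ_ne_bot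
  obtain ⟨⟨a, ha⟩, hne⟩ := exists_ne (1 : omegaZ (S : Subgroup G))
  have ha1 : a ≠ 1 := fun h => hne (Subtype.ext h)
  obtain ⟨c, hc, hcA, hca⟩ := hM.exists_conj_ne ha ha1
  set b := φ a with hb
  set d := φ b with hd
  have hbA := hM.apply_omegaZ ha
  have hdA := hM.apply_omegaZ hbA
  have hab : b ≠ a := hM.apply_ne ha ha1
  have hb1 : b ≠ 1 := fun h => ha1 (φ.injective (h.trans (map_one φ).symm))
  have hd1 : d ≠ 1 := fun h => hb1 (φ.injective (h.trans (map_one φ).symm))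
  have hdb : d ≠ b := hM.apply_ne hbA hb1
  have hda : d ≠ a := fun h => hab (by
    have := congrArg φ h
    rw [hd, hb, hM.tri] at this
    exact this.symm)
  set e := c * a * c⁻¹ with he
  have hea : e ≠ b := hM.conj_ne_apply ha ha1 hc
  have hed : e ≠ d := fun h => by
    refine hM.conj_ne_apply ha ha1 (c := c⁻¹) (by rw [map_inv, hc]) ?_
    have h1 := congrArg φ h
    rw [he, map_mul, map_mul, map_inv, hc, hd, hb, hM.tri] at h1
    calc c⁻¹ * a * c⁻¹⁻¹ = c⁻¹ * (c * φ a * c⁻¹) * c⁻¹⁻¹ := by rw [h1]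
      _ = φ a := by group
  have he1 : e ≠ 1 := fun h => ha1 (conj_eq_one_iff.1 h)
  have h5 : 5 ≤ Nat.card (omegaZ (S : Subgroup G)) := by
    have hsub : ({1, a, b, d, e} : Finset G) ⊆
        ((omegaZ (S : Subgroup G) : Set G).toFinite).toFinset := by
      intro x hx
      simp only [Finset.mem_insert, Finset.mem_singleton] at hx
      rw [Set.Finite.mem_toFinset]
      rcases hx with rfl | rfl | rfl | rfl | rfl
      exacts [one_mem _, ha, hbA, hdA, hcA]
    have hcard : ({1, a, b, d, e} : Finset G).card = 5 := by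
      simp [ha1.symm, hb1.symm, hd1.symm, he1.symm, hab.symm, hda.symm, hca.symm, hdb.symm,
        hea.symm, hed.symm]
    have h := Finset.card_le_card hsub
    rw [hcard, ← Set.ncard_eq_toFinset_card] at h
    exact h
  obtain ⟨k, hk⟩ := IsPGroup.iff_card.1 (S.isPGroup'.to_le (omegaZ_le (S : Subgroup G)))
  rw [hk] at h5 ⊢
  refine Nat.pow_le_pow_right two_pos ?_
  by_contra hk3
  have := Nat.pow_le_pow_right two_pos (Nat.le_of_lt_succ (not_le.1 hk3))
  norm_num at this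
  omega

/-- Centralizers of central involutions. -/
theorem centralizer_decomp {a : G} (ha : a ∈ omegaZ (S : Subgroup G)) (ha1 : a ≠ 1) :
    Group.IsSolvable (Subgroup.centralizer ({a} : Set G)) ∧
      Subgroup.centralizer ({a} : Set G) ≤ Cfsg.centralizerPPrimeCore 2 a ⊔
        Subgroup.normalizer ((S : Subgroup G) : Set G) := by
  haveI : Fact (Nat.Prime 2) := ⟨Nat.prime_two⟩
  set H := Subgroup.centralizer ({a} : Set G) with hH
  have hSH : (S : Subgroup G) ≤ H := le_centralizer_of_mem_omegaZ ha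
  set b := φ a with hb
  have hbA := hM.apply_omegaZ ha
  have hbH : b ∈ H := hSH (omegaZ_le _ hbA)
  have hbord : orderOf (⟨b, hbH⟩ : H) = 2 := by
    rw [Subgroup.orderOf_mk]
    exact orderOf_eq_prime hbA.2 fun h => ha1 (φ.injective (h.trans (map_one φ).symm))
  obtain ⟨N, hNn, hNodd, hN⟩ := CfsgLib.Invol.zStar_sylow (S.subtype hSH) ⟨b, hbH⟩ hbord
    fun g hg => by
      have hg' : g * ⟨b, hbH⟩ * g⁻¹ ∈ ((S.subtype hSH : Sylow 2 H) : Subgroup H) := hg
      rw [Sylow.coe_subtype] at hg'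
      have hga : (g : G) * a * (g : G)⁻¹ = a := by
        rw [Subgroup.mem_centralizer_singleton_iff.1 g.2, mul_inv_cancel_right]
      obtain ⟨c, -, hc, hce⟩ := hM.exists_fixed_fuse {a, b}
        (by rintro _ (rfl | rfl); exacts [ha.1, hbA.1]) g
        (by rintro _ (rfl | rfl); exacts [hga.symm ▸ omegaZ_le _ ha, hg'])
      refine Subtype.ext ?_
      show (g : G) * b * (g : G)⁻¹ = b
      have h1 : a = c * a * c⁻¹ := hga.symm.trans (hce a (Or.inl rfl))
      rw [hce b (Or.inr rfl)]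
      conv_rhs => rw [hb, h1, map_mul, map_mul, map_inv, hc]
  haveI := hNn
  set x : H := ⟨b, hbH⟩ with hx
  set f := QuotientGroup.mk' N with hf
  have hxc : ∀ y, f x * y = y * f x := by
    intro y
    obtain ⟨g, rfl⟩ := QuotientGroup.mk'_surjective N y
    have h1 : f (x * g * x⁻¹ * g⁻¹) = 1 := (QuotientGroup.eq_one_iff _).2 (hN g)
    rw [map_mul, map_mul, map_mul, map_inv, map_inv, mul_inv_eq_one, mul_inv_eq_iff_eq_mul] at h1
    exact h1
  set C : Subgroup G := Subgroup.centralizer ({a, b} : Set G) with hC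
  have hCH : C ≤ H := Subgroup.centralizer_le (by simp)
  have hCinv : ∀ g ∈ C, φ g ∈ C := fun g hg => by
    refine apply_mem_centralizer (fun y hy => ?_) hg
    rcases hy with hy | hy <;> rw [hy]
    · refine ⟨φ (φ a), fun g hg => ?_, hM.tri a⟩
      rw [inv_eq_of_mul_eq_one_right (hM.prod_eq_one (omegaZ_le _ ha)) |>.symm]
      have hga : Commute g a := (Subgroup.mem_centralizer_iff.1 hg a (Or.inl rfl)).symm
      have hgb : Commute g b := (Subgroup.mem_centralizer_iff.1 hg b (Or.inr rfl)).symm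
      exact ((hga.mul_right hgb).inv_right).eq.symm
    · exact ⟨a, fun g hg => Subgroup.mem_centralizer_iff.1 hg a (Or.inl rfl), rfl⟩
  have hCtop : C ≠ ⊤ := fun h => by
    have : a ∈ Subgroup.center G := Subgroup.mem_center_iff.2 fun g =>
      (Subgroup.mem_centralizer_iff.1 (h ▸ Subgroup.mem_top g : g ∈ C) a (Or.inl rfl)).symm
    rw [hM.centreBot, Subgroup.mem_bot] at this
    exact ha1 this
  haveI hCs := hM.subSolv C hCtop hCinv
  -- `C` covers `H` modulo `N`
  have hcover : ∀ h : H, ∃ c : H, (c : G) ∈ C ∧ f c = f h := by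
    set M := (Subgroup.zpowers (f x)).comap f with hMdef
    haveI : (Subgroup.zpowers (f x)).Normal := ⟨fun y hy g => by
      obtain ⟨k, rfl⟩ := Subgroup.mem_zpowers_iff.1 hy
      have hk : g * f x ^ k = f x ^ k * g := (Commute.zpow_right (hxc g).symm k).eq
      rw [hk, mul_inv_cancel_right]
      exact hy⟩
    haveI : M.Normal := Subgroup.Normal.comap inferInstance f
    obtain ⟨R, hR⟩ := exists_sylow_map_eq_inf (S.subtype hSH) M
    have hfr := Sylow.normalizer_sup_eq_top R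
    rw [hR, Sylow.coe_subtype] at hfr
    have hxS : x ∈ (S : Subgroup G).subgroupOf H ⊓ M :=
      ⟨omegaZ_le (S : Subgroup G) hbA, Subgroup.mem_zpowers (f x)⟩
    have hdec : ∀ m ∈ M, ∃ n ∈ N, ∃ k : ℤ, m = n * x ^ k := by
      intro m hm
      obtain ⟨k, hk⟩ := Subgroup.mem_zpowers_iff.1 hm
      refine ⟨m * (x ^ k)⁻¹, (QuotientGroup.eq_one_iff _).1 ?_, k, (inv_mul_cancel_right _ _).symm⟩
      show f (m * (x ^ k)⁻¹) = 1
      rw [map_mul, map_inv, map_zpow, hk, mul_inv_cancel]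
    have hnorm : Subgroup.normalizer (((S : Subgroup G).subgroupOf H ⊓ M : Subgroup H) : Set H) ≤
        C.subgroupOf H := by
      intro g hg
      obtain ⟨n, hn, k, hnk⟩ := hdec _ ((Subgroup.mem_normalizer_iff.1 hg x).1 hxS).2
      have h1 := ((Subgroup.mem_normalizer_iff.1 hg x).1 hxS).1
      have hxk : x ^ k ∈ (S : Subgroup G).subgroupOf H :=
        Subgroup.zpow_mem _ (omegaZ_le (S : Subgroup G) hbA : x ∈ (S : Subgroup G).subgroupOf H) k
      have hnS : n ∈ (S : Subgroup G).subgroupOf H := by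
        rw [show n = g * x * g⁻¹ * (x ^ k)⁻¹ by rw [hnk, mul_inv_cancel_right]]
        exact mul_mem h1 (inv_mem hxk)
      have hn1 : n = 1 := Subtype.ext (eq_one_of_odd_mem_twoGroup S.isPGroup' hnS (by
        rw [Subgroup.orderOf_coe]; exact odd_orderOf_of_mem hNodd hn))
      rw [hn1, one_mul] at hnk
      have hx2 : x ^ (2 : ℤ) = 1 := by
        rw [zpow_ofNat]
        exact Subtype.ext hbA.2
      have hgx : g * x * g⁻¹ = x := by
        rcases Int.even_or_odd k with ⟨j, rfl⟩ | ⟨j, rfl⟩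
        · exfalso
          rw [← two_mul, zpow_mul, hx2, one_zpow, conj_eq_one_iff] at hnk
          rw [hnk, orderOf_one] at hbord
          norm_num at hbord
        · rw [zpow_add, zpow_mul, hx2, one_zpow, one_mul, zpow_one] at hnk
          exact hnk
      refine Subgroup.mem_centralizer_iff.2 ?_
      rintro _ (rfl | rfl)
      · exact (Subgroup.mem_centralizer_singleton_iff.1 g.2).symm
      · exact (congrArg Subtype.val (mul_inv_eq_iff_eq_mul.1 hgx)).symm
    have htop : N ⊔ C.subgroupOf H = ⊤ := by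
      rw [eq_top_iff, ← hfr]
      refine sup_le (hnorm.trans le_sup_right) fun m hm => ?_
      obtain ⟨n, hn, k, rfl⟩ := hdec m hm
      refine mul_mem (Subgroup.mem_sup_left hn) (Subgroup.mem_sup_right (zpow_mem ?_ k))
      refine Subgroup.mem_centralizer_iff.2 ?_
      rintro _ (rfl | rfl)
      · exact (omegaZ_isElem _).1 _ ha _ hbA
      · rfl
    intro h
    have hh : h ∈ N ⊔ C.subgroupOf H := htop ▸ Subgroup.mem_top h
    rw [← SetLike.mem_coe, Subgroup.normal_mul] at hh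
    obtain ⟨n, hn, c, hc, rfl⟩ := hh
    refine ⟨c, hc, ?_⟩
    show f c = f (n * c)
    rw [map_mul, show f n = 1 from (QuotientGroup.eq_one_iff n).2 hn, one_mul]
  have hHs : Group.IsSolvable H := by
    haveI : Group.IsSolvable N := hM.oddSolv N hNodd
    haveI : Group.IsSolvable (H ⧸ N) := by
      refine Group.isSolvable_of_surjective (f := f.comp (Subgroup.inclusion hCH)) fun y => ?_
      obtain ⟨h, rfl⟩ := QuotientGroup.mk'_surjective N y
      obtain ⟨c, hc, hcf⟩ := hcover h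
      exact ⟨⟨c, hc⟩, hcf⟩
    exact (Group.isSolvable_iff_subgroup_quotient N).2 ⟨inferInstance, inferInstance⟩
  refine ⟨hHs, fun h hh => ?_⟩
  haveI := hHs
  obtain ⟨c, hc, hcf⟩ := hcover ⟨h, hh⟩
  have hSC : (S : Subgroup G) ≤ C := fun s hs => Subgroup.mem_centralizer_iff.2 (by
    rintro _ (rfl | rfl)
    exacts [(Subgroup.mem_centralizer_iff.1 ha.1.2 s hs).symm,
      (Subgroup.mem_centralizer_iff.1 hbA.1.2 s hs).symm])
  have hidx := (solvable_case (resAut_isTri hM.tri C hCinv)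
    (fun h => hM.three (h.trans (Subgroup.card_subgroup_dvd_card C)))
    (resAut_fix_odd hM.fixOdd C hCinv)).1
  obtain ⟨o, ho, n, hn, -, hcon⟩ := exists_core_normalizer S hSC hidx hc
  have hCo : coreIn C ≤ coreIn H := le_coreIn_of_sylow_normalizes S hSH
    ((coreIn_le C).trans hCH) (coreIn_card C) fun s hs d hd => conj_mem_coreIn (hSC hs) hd
  have hk : (⟨h, hh⟩ : H) * c⁻¹ ∈ Cfsg.pPrimeCore 2 H := by
    refine le_pPrimeCore hNn (Nat.coprime_two_right.2 hNodd) ((QuotientGroup.eq_one_iff _).1 ?_)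
    show f (⟨h, hh⟩ * c⁻¹) = 1
    rw [map_mul, map_inv, hcf, mul_inv_cancel]
  have hk' : h * (c : G)⁻¹ ∈ coreIn H := ⟨_, hk, rfl⟩
  rw [show h = h * (c : G)⁻¹ * o * n by rw [mul_assoc, ← hcon, inv_mul_cancel_right]]
  exact mul_mem (Subgroup.mem_sup_left (mul_mem hk' (hCo ho))) (Subgroup.mem_sup_right hn)

end IsMinimal

end CfsgLib.FpfSymThree
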