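import Cfsg.Agent.Lib.Invol.BaerSuzuki

/-!
A group of order prime to three acting faithfully on an elementary abelian 2-group with all
2-subgroups quadratic: a minimal offender lies in a normal 2-subgroup.
-/

set_option autoImplicit false
set_option linter.unusedSectionVars false

universe u v

namespace CfsgLib.FpfSymThree

variable {X : Type u} [Group X] [Finite X] {V : Type v} [CommGroup V] [Finite V]
  [MulDistribMulAction X V]

/-- The fixed points of a subgroup. -/
def fixOf (B : Subgroup X) : Subgroup V where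
  carrier := {v | ∀ b ∈ B, b • v = v}
  one_mem' := fun b _ => smul_one b
  mul_mem' := fun hu hv b hb => by rw [smul_mul', hu b hb, hv b hb]
  inv_mem' := fun hu b hb => by rw [smul_inv', hu b hb]

theorem mem_fixOf {B : Subgroup X} {v : V} : v ∈ fixOf B ↔ ∀ b ∈ B, b • v = v := Iff.rfl

theorem fixOf_anti {B C : Subgroup X} (h : B ≤ C) : fixOf C ≤ (fixOf B : Subgroup V) :=
  fun _ hv b hb => hv b (h hb)

/-- An offender. -/
def IsOff (V : Type v) [CommGroup V] [MulDistribMulAction X V] (B : Subgroup X) : Prop :=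
  IsPGroup 2 B ∧ B ≠ ⊥ ∧ Nat.card V ≤ Nat.card B * Nat.card (fixOf B : Subgroup V)

/-- An offender no proper subgroup of which is one. -/
def IsMinOff (V : Type v) [CommGroup V] [MulDistribMulAction X V] (B : Subgroup X) : Prop :=
  IsOff V B ∧ ∀ C : Subgroup X, C < B → ¬ IsOff V C

/-- Every 2-subgroup acts quadratically. -/
def Quad (X : Type u) [Group X] (V : Type v) [CommGroup V] [MulDistribMulAction X V] : Prop :=
  ∀ P : Subgroup X, IsPGroup 2 P → ∀ p ∈ P, ∀ q ∈ P, ∀ v : V, q • (p • v / v) = p • v / v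

theorem div_smul_mul (p q : X) (v : V) (h : p • (q • v / v) = q • v / v) :
    (p * q) • v = (q • v / v) * (p • v / v) * v := by
  have hqv : q • v = (q • v / v) * v := (div_mul_cancel _ _).symm
  calc (p * q) • v = p • (q • v) := mul_smul _ _ _
    _ = p • ((q • v / v) * v) := by rw [← hqv]
    _ = (q • v / v) * (p • v) := by rw [smul_mul', h]
    _ = _ := by rw [mul_assoc, div_mul_cancel]

theorem Quad.commute [FaithfulSMul X V] (hq : Quad X V) {P : Subgroup X} (hP : IsPGroup 2 P)
    {p q : X} (hp : p ∈ P) (hqP : q ∈ P) : p * q = q * p :=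
  eq_of_smul_eq_smul fun v : V => by
    rw [div_smul_mul p q v (hq P hP q hqP p hp v), div_smul_mul q p v (hq P hP p hp q hqP v),
      mul_comm (q • v / v) (p • v / v)]

theorem odd_pow_fix {x : X} (hx : Odd (orderOf x)) (hexp : ∀ v : V, v ^ 2 = 1) {v : V}
    (hd : x • (x • v / v) = x • v / v) : x • v = v := by
  set c := x • v / v with hc
  have key : ∀ n : ℕ, (x ^ n) • v = c ^ n * v := by
    intro n
    induction n with
    | zero => simp
    | succ n ih =>
      rw [pow_succ', mul_smul, ih, smul_mul', smul_pow', hd, show x • v = c * v from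
        (div_mul_cancel _ _).symm, pow_succ, mul_assoc]
  have h := key (orderOf x)
  rw [pow_orderOf_eq_one, one_smul] at h
  obtain ⟨k, hk⟩ := hx
  rw [hk, pow_succ, pow_mul, hexp, one_pow, one_mul] at h
  exact div_eq_one.1 (mul_eq_right.1 h.symm)

theorem smul_fixOf_card (g : X) (B : Subgroup X) :
    Nat.card (fixOf (B.map (MulAut.conj g).toMonoidHom) : Subgroup V) =
      Nat.card (fixOf B : Subgroup V) := by
  symm
  refine Nat.card_congr
    { toFun := fun v => ⟨g • (v : V), ?_⟩, invFun := fun v => ⟨g⁻¹ • (v : V), ?_⟩,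
      left_inv := fun v => Subtype.ext (inv_smul_smul g (v : V)),
      right_inv := fun v => Subtype.ext (smul_inv_smul g (v : V)) }
  · rintro _ ⟨b, hb, rfl⟩
    simp only [MulEquiv.coe_toMonoidHom, MulAut.conj_apply, mul_smul, inv_smul_smul]
    rw [v.2 b hb]
  · intro b hb
    have := v.2 _ ⟨b, hb, rfl⟩
    simp only [MulEquiv.coe_toMonoidHom, MulAut.conj_apply, mul_smul] at this
    calc b • g⁻¹ • (v : V) = g⁻¹ • (g • b • g⁻¹ • (v : V)) := (inv_smul_smul g _).symm
      _ = g⁻¹ • (v : V) := by rw [this]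

theorem card_map_conj (g : X) (B : Subgroup X) :
    Nat.card (B.map (MulAut.conj g).toMonoidHom) = Nat.card B :=
  Nat.card_congr (Subgroup.equivMapOfInjective _ _ (MulAut.conj g).injective).symm.toEquiv

theorem IsMinOff.map_conj {B : Subgroup X} (h : IsMinOff V B) (g : X) :
    IsMinOff V (B.map (MulAut.conj g).toMonoidHom) := by
  have hinv : ∀ (k : X) (C : Subgroup X), IsOff V C → IsOff V (C.map (MulAut.conj k).toMonoidHom) :=
    fun k C hC => ⟨hC.1.map _, fun h' => hC.2.1 ((Subgroup.map_eq_bot_iff_of_injective _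
      (MulAut.conj k).injective).1 h'), by rw [smul_fixOf_card, card_map_conj]; exact hC.2.2⟩
  refine ⟨hinv g B h.1, fun C hC hoff => ?_⟩
  have he : (B.map (MulAut.conj g).toMonoidHom).map (MulAut.conj g⁻¹).toMonoidHom = B := by
    rw [Subgroup.map_map]
    have : (MulAut.conj g⁻¹).toMonoidHom.comp (MulAut.conj g).toMonoidHom = MonoidHom.id X := by
      ext x; simp [mul_assoc]
    rw [this, Subgroup.map_id]
  refine h.2 _ ?_ (hinv g⁻¹ C hoff)
  have hlt := Subgroup.map_lt_map_iff_of_injective (f := (MulAut.conj g⁻¹).toMonoidHom)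
    (MulAut.conj g⁻¹).injective |>.2 hC
  rwa [he] at hlt

section Pair

variable [FaithfulSMul X V]

/-- The elements commuting with all of `B'`. -/
def comPart (B B' : Subgroup X) : Subgroup X := B ⊓ Subgroup.centralizer (B' : Set X)

/-- The points fixed by both central parts. -/
def vOne (B B' : Subgroup X) : Subgroup V := fixOf (comPart B B') ⊓ fixOf (comPart B' B)

/-- Points of `vOne` fixed by the elements of odd order of the join. -/
def rZero (B B' : Subgroup X) : Subgroup V where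
  carrier := {v | v ∈ (vOne B B' : Subgroup V) ∧ ∀ x ∈ B ⊔ B', Odd (orderOf x) → x • v = v}
  one_mem' := ⟨one_mem _, fun x _ _ => smul_one x⟩
  mul_mem' := fun hu hv => ⟨mul_mem hu.1 hv.1,
    fun x hx ho => by rw [smul_mul', hu.2 x hx ho, hv.2 x hx ho]⟩
  inv_mem' := fun hu => ⟨inv_mem hu.1, fun x hx ho => by rw [smul_inv', hu.2 x hx ho]⟩

/-- Points of `vOne` fixed by `C` modulo `rZero`. -/
def fixMod (B B' C : Subgroup X) : Subgroup V where
  carrier := {v | v ∈ (vOne B B' : Subgroup V) ∧ ∀ c ∈ C, c • v / v ∈ (rZero B B' : Subgroup V)}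
  one_mem' := ⟨one_mem _, fun c _ => by simp⟩
  mul_mem' := fun hu hv => ⟨mul_mem hu.1 hv.1, fun c hc => by
    rw [smul_mul', ← div_mul_div_comm]; exact mul_mem (hu.2 c hc) (hv.2 c hc)⟩
  inv_mem' := fun hu => ⟨inv_mem hu.1, fun c hc => by
    rw [smul_inv', inv_div_inv, ← inv_div]
    exact inv_mem (hu.2 c hc)⟩

theorem vOne_swap (B B' : Subgroup X) : (vOne B B' : Subgroup V) = vOne B' B := inf_comm _ _

theorem rZero_swap (B B' : Subgroup X) : (rZero B B' : Subgroup V) = rZero B' B := by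
  ext v
  show (v ∈ (vOne B B' : Subgroup V) ∧ _) ↔ (v ∈ (vOne B' B : Subgroup V) ∧ _)
  rw [vOne_swap B B', sup_comm B B']

theorem fixMod_swap (B B' C : Subgroup X) : (fixMod B B' C : Subgroup V) = fixMod B' B C := by
  ext v
  show (v ∈ (vOne B B' : Subgroup V) ∧ _) ↔ (v ∈ (vOne B' B : Subgroup V) ∧ _)
  rw [vOne_swap B B', rZero_swap B B']

variable {B B' : Subgroup X}

theorem commute_of_mem_comPart (hBc : ∀ p ∈ B, ∀ q ∈ B, p * q = q * p) {b x : X}
    (hb : b ∈ comPart B B') (hx : x ∈ B ⊔ B') : b * x = x * b := by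
  have : B ⊔ B' ≤ Subgroup.centralizer ({b} : Set X) :=
    sup_le (fun p hp => Subgroup.mem_centralizer_singleton_iff.2 (hBc p hp b hb.1))
      fun p hp => Subgroup.mem_centralizer_singleton_iff.2
        (Subgroup.mem_centralizer_iff.1 hb.2 p hp)
  exact (Subgroup.mem_centralizer_singleton_iff.1 (this hx)).symm

theorem smul_mem_vOne (hBc : ∀ p ∈ B, ∀ q ∈ B, p * q = q * p)
    (hBc' : ∀ p ∈ B', ∀ q ∈ B', p * q = q * p) {x : X} (hx : x ∈ B ⊔ B') {v : V}
    (hv : v ∈ (vOne B B' : Subgroup V)) : x • v ∈ (vOne B B' : Subgroup V) := by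
  refine ⟨fun b hb => ?_, fun b hb => ?_⟩
  · rw [← mul_smul, commute_of_mem_comPart hBc hb hx, mul_smul, hv.1 b hb]
  · rw [← mul_smul, commute_of_mem_comPart hBc' hb (sup_comm B B' ▸ hx), mul_smul, hv.2 b hb]

theorem smul_mem_rZero (hBc : ∀ p ∈ B, ∀ q ∈ B, p * q = q * p)
    (hBc' : ∀ p ∈ B', ∀ q ∈ B', p * q = q * p) {x : X} (hx : x ∈ B ⊔ B') {v : V}
    (hv : v ∈ (rZero B B' : Subgroup V)) : x • v ∈ (rZero B B' : Subgroup V) := by
  refine ⟨smul_mem_vOne hBc hBc' hx hv.1, fun y hy ho => ?_⟩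
  have h := hv.2 (x⁻¹ * y * x) (mul_mem (mul_mem (inv_mem hx) hy) hx) (by
    have : orderOf (x⁻¹ * y * x) = orderOf y := by
      simpa [MulAut.conj_apply] using (MulAut.conj x⁻¹).orderOf_eq y
    rwa [this])
  calc y • x • v = x • ((x⁻¹ * y * x) • v) := by simp [← mul_smul, mul_assoc]
    _ = x • v := by rw [h]

theorem mem_rZero_of_fixMod_both (hexp : ∀ v : V, v ^ 2 = 1)
    (hBc : ∀ p ∈ B, ∀ q ∈ B, p * q = q * p)
    (hBc' : ∀ p ∈ B', ∀ q ∈ B', p * q = q * p) {v : V}
    (hv : v ∈ (fixMod B B' B : Subgroup V)) (hv' : v ∈ (fixMod B B' B' : Subgroup V)) :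
    v ∈ (rZero B B' : Subgroup V) := by
  let S : Subgroup X :=
    { carrier := {x | x ∈ B ⊔ B' ∧ x • v / v ∈ (rZero B B' : Subgroup V)}
      one_mem' := ⟨one_mem _, by simp⟩
      mul_mem' := by
        intro a b ha hb
        refine ⟨mul_mem ha.1 hb.1, ?_⟩
        have : (a * b) • v / v = a • (b • v / v) * (a • v / v) := by
          rw [smul_div', mul_smul, div_mul_div_cancel]
        rw [this]
        exact mul_mem (smul_mem_rZero hBc hBc' ha.1 hb.2) ha.2
      inv_mem' := by
        intro a ha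
        refine ⟨inv_mem ha.1, ?_⟩
        have h := inv_mem (smul_mem_rZero hBc hBc' (inv_mem ha.1) ha.2)
        rwa [smul_div', inv_smul_smul, inv_div] at h }
  have hS : B ⊔ B' ≤ S := sup_le (fun b hb => ⟨Subgroup.mem_sup_left hb, hv.2 b hb⟩)
    fun b hb => ⟨Subgroup.mem_sup_right hb, hv'.2 b hb⟩
  exact ⟨hv.1, fun x hx ho => odd_pow_fix ho hexp ((hS hx).2.2 x hx ho)⟩

/-- The displacement map of a point fixed modulo `rZero` by `B'`. -/
theorem disp_mem_fixMod (hq : Quad X V) (hB : IsPGroup 2 B) (hBc : ∀ p ∈ B, ∀ q ∈ B, p * q = q * p)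
    (hBc' : ∀ p ∈ B', ∀ q ∈ B', p * q = q * p) {w : V} (hw : w ∈ (vOne B B' : Subgroup V))
    {b : X} (hb : b ∈ B) : b • w / w ∈ (fixMod B B' B : Subgroup V) :=
  ⟨div_mem (smul_mem_vOne hBc hBc' (Subgroup.mem_sup_left hb) hw) hw, fun c hc => by
    rw [hq B hB b hb c hc w, div_self']; exact one_mem _⟩

theorem card_mul_relIndex_aux {G : Type*} [Group G] {H K : Subgroup G} (h : H ≤ K) :
    Nat.card H * H.relIndex K = Nat.card K := by
  rw [← Subgroup.relIndex_bot_left H, ← Subgroup.relIndex_bot_left K,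
    Subgroup.relIndex_mul_relIndex ⊥ H K bot_le h]

/-- The index bound coming from minimality. -/
theorem relIndex_le_of_minOff (hB : IsMinOff V B) (hne : comPart B B' ≠ B) :
    (fixOf B : Subgroup V).relIndex (vOne B B') ≤ (comPart B B').relIndex B := by
  have hle : comPart B B' ≤ B := inf_le_left
  have hc := Subgroup.card_mul_index (fixOf B : Subgroup V)
  have hcB : Nat.card (comPart B B') * (comPart B B').relIndex B = Nat.card B :=
    card_mul_relIndex_aux hle
  have hcC : Nat.card (fixOf B : Subgroup V) *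
      (fixOf B : Subgroup V).relIndex (fixOf (comPart B B')) =
      Nat.card (fixOf (comPart B B') : Subgroup V) :=
    card_mul_relIndex_aux (fixOf_anti hle)
  refine (Subgroup.relIndex_le_of_le_right inf_le_left Subgroup.index_ne_zero_of_finite).trans ?_
  set r := (fixOf B : Subgroup V).relIndex (fixOf (comPart B B')) with hr
  set q := (comPart B B').relIndex B with hqd
  by_cases hbot : comPart B B' = ⊥
  · have hq1 : q = Nat.card B := by rw [hqd, hbot, Subgroup.relIndex_bot_left]
    have hle' : Nat.card (fixOf (comPart B B') : Subgroup V) ≤ Nat.card V :=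
      Finite.card_subtype_le _
    have h := hB.1.2.2
    rw [← hcC] at hle'
    rw [hq1]
    exact Nat.le_of_mul_le_mul_left (hle'.trans (h.trans (le_of_eq (mul_comm _ _)))) Nat.card_pos
  · have h1 : ¬ IsOff V (comPart B B') := hB.2 _ (lt_of_le_of_ne hle hne)
    have h2 : Nat.card (comPart B B') * Nat.card (fixOf (comPart B B') : Subgroup V) < Nat.card V :=
      not_le.1 fun h => h1 ⟨hB.1.1.to_le hle, hbot, h⟩
    have h := hB.1.2.2
    rw [← hcC] at h2
    rw [← hcB] at h
    by_contra hlt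
    have hlt' : q * (Nat.card (comPart B B') * Nat.card (fixOf B : Subgroup V)) ≤
        r * (Nat.card (comPart B B') * Nat.card (fixOf B : Subgroup V)) :=
      Nat.mul_le_mul_right _ (le_of_not_ge hlt)
    have e1 : Nat.card (comPart B B') * q * Nat.card (fixOf B : Subgroup V) =
        q * (Nat.card (comPart B B') * Nat.card (fixOf B : Subgroup V)) := by ring
    have e2 : Nat.card (comPart B B') * (Nat.card (fixOf B : Subgroup V) * r) =
        r * (Nat.card (comPart B B') * Nat.card (fixOf B : Subgroup V)) := by ring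
    omega

/-- The displacement hom. -/
theorem exists_disp_hom (hq : Quad X V) (hB : IsPGroup 2 B) (hB' : IsMinOff V B')
    (hBc : ∀ p ∈ B, ∀ q ∈ B, p * q = q * p) (hBc' : ∀ p ∈ B', ∀ q ∈ B', p * q = q * p)
    (hexp : ∀ v : V, v ^ 2 = 1)
    (ih : ∀ S : Subgroup X, S < B ⊔ B' → B' ≤ S →
      ∃ N : Subgroup X, N ≤ S ∧ IsPGroup 2 N ∧ S ≤ Subgroup.normalizer (N : Set X) ∧ B' ≤ N)
    {w : V} (hw : w ∈ (fixMod B B' B' : Subgroup V)) (hw0 : w ∉ (rZero B B' : Subgroup V)) :
    ∃ φ : B →* V ⧸ (rZero B B' : Subgroup V),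
      (∀ b : B, φ b = QuotientGroup.mk ((b : X) • w / w)) ∧
      φ.ker = (comPart B B').subgroupOf B ∧
      φ.range ≤ (fixMod B B' B : Subgroup V).map (QuotientGroup.mk' _) := by
  have hwv : w ∈ (vOne B B' : Subgroup V) := hw.1
  let φ : B →* V ⧸ (rZero B B' : Subgroup V) :=
    MonoidHom.mk' (fun b => QuotientGroup.mk ((b : X) • w / w)) fun a b => by
      rw [← QuotientGroup.mk_mul]
      congr 1
      show ((a : X) * b) • w / w = _
      rw [div_smul_mul _ _ _ (hq B hB b b.2 a a.2 w), mul_div_cancel_right, mul_comm]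
  refine ⟨φ, fun b => rfl, ?_, ?_⟩
  · ext b
    rw [MonoidHom.mem_ker, Subgroup.mem_subgroupOf]
    show (QuotientGroup.mk ((b : X) • w / w) : V ⧸ (rZero B B' : Subgroup V)) = 1 ↔ _
    rw [QuotientGroup.eq_one_iff]
    constructor
    · intro hb
      let S : Subgroup X :=
        { carrier := {x | x ∈ B ⊔ B' ∧ x • w / w ∈ (rZero B B' : Subgroup V)}
          one_mem' := ⟨one_mem _, by simp⟩
          mul_mem' := by
            intro x y hx hy
            refine ⟨mul_mem hx.1 hy.1, ?_⟩
            have : (x * y) • w / w = x • (y • w / w) * (x • w / w) := by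
              rw [smul_div', mul_smul, div_mul_div_cancel]
            rw [this]
            exact mul_mem (smul_mem_rZero hBc hBc' hx.1 hy.2) hx.2
          inv_mem' := by
            intro a ha
            refine ⟨inv_mem ha.1, ?_⟩
            have h := inv_mem (smul_mem_rZero hBc hBc' (inv_mem ha.1) ha.2)
            rwa [smul_div', inv_smul_smul, inv_div] at h }
      have hB'S : B' ≤ S := fun x hx => ⟨Subgroup.mem_sup_right hx, hw.2 x hx⟩
      have hlt : S < B ⊔ B' := by
        refine lt_of_le_of_ne (fun x hx => hx.1) fun he => hw0 ?_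
        refine mem_rZero_of_fixMod_both hexp hBc hBc' ⟨hwv, fun c hc => ?_⟩ hw
        have : c ∈ S := he.symm ▸ Subgroup.mem_sup_left hc
        exact this.2
      obtain ⟨N, hNS, hN, hSN, hBN⟩ := ih S hlt hB'S
      have hbS : (b : X) ∈ S := ⟨Subgroup.mem_sup_left b.2, hb⟩
      have hP : IsPGroup 2 ↥(Subgroup.zpowers (b : X) ⊔ N) :=
        IsPGroup.to_sup_of_normal_right' (hB.to_le (Subgroup.zpowers_le.2 b.2)) hN
          (Subgroup.zpowers_le.2 (hSN hbS))
      exact ⟨b.2, Subgroup.mem_centralizer_iff.2 fun c hc => (hq.commute hP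
        (Subgroup.mem_sup_left (Subgroup.mem_zpowers _))
        (Subgroup.mem_sup_right (hBN hc))).symm⟩
    · intro hb
      rw [hwv.1 _ hb, div_self']
      exact one_mem _
  · rintro _ ⟨b, rfl⟩
    exact ⟨_, disp_mem_fixMod hq hB hBc hBc' hwv b.2, rfl⟩

theorem fixMod_quot_card (hBc : ∀ p ∈ B, ∀ q ∈ B, p * q = q * p) (C : Subgroup X)
    (hBc' : ∀ p ∈ B', ∀ q ∈ B', p * q = q * p) (hC : C ≤ B ⊔ B') :
    Nat.card ((fixMod B B' C : Subgroup V).map (QuotientGroup.mk' (rZero B B' : Subgroup V))) =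
      (rZero B B' : Subgroup V).relIndex (fixMod B B' C) := by
  rw [← Subgroup.relIndex_ker]
  · congr 1
    simp

end Pair

/-- A minimal offender lies in a normal 2-subgroup of every overgroup. -/
theorem minOff_le_normal [FaithfulSMul X V] (hexp : ∀ v : V, v ^ 2 = 1) (h3 : ¬ 3 ∣ Nat.card X)
    (hq : Quad X V) : ∀ (n : ℕ) (X₀ : Subgroup X), Nat.card X₀ = n → ∀ B : Subgroup X, B ≤ X₀ →
      IsMinOff V B → ∃ N : Subgroup X, N ≤ X₀ ∧ IsPGroup 2 N ∧
        X₀ ≤ Subgroup.normalizer (N : Set X) ∧ B ≤ N := by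
  intro n
  induction n using Nat.strong_induction_on with
  | _ n ih =>
  intro X₀ hn B hBX hB
  haveI : Fact (Nat.Prime 2) := ⟨Nat.prime_two⟩
  by_cases hall : ∀ g : X₀, IsPGroup 2
      ↥(B.subgroupOf X₀ ⊔ (B.subgroupOf X₀).map (MulAut.conj g).toMonoidHom)
  · obtain ⟨N, hN, hNp, hBN⟩ := CfsgLib.Invol.baer_suzuki (B.subgroupOf X₀) hall
    refine ⟨N.map X₀.subtype, Subgroup.map_subtype_le _, hNp.map _, fun x hx => ?_, fun b hb =>
      ⟨⟨b, hBX hb⟩, hBN hb, rfl⟩⟩
    have := Subgroup.le_normalizer_map X₀.subtype (H := N) ⟨⟨x, hx⟩, by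
      rw [Subgroup.normalizer_eq_top_iff.2 hN]; trivial, rfl⟩
    exact this
  exfalso
  rw [not_forall] at hall
  obtain ⟨g, hg⟩ := hall
  set B' := B.map (MulAut.conj (g : X)).toMonoidHom with hB'def
  have hB' : IsMinOff V B' := hB.map_conj (g : X)
  have hB'X : B' ≤ X₀ := by
    rintro _ ⟨b, hb, rfl⟩
    exact mul_mem (mul_mem g.2 (hBX hb)) (inv_mem g.2)
  have hnot : ¬ IsPGroup 2 ↥(B ⊔ B') := by
    intro h
    refine hg ?_
    have hmap : ((B.subgroupOf X₀ ⊔ (B.subgroupOf X₀).map (MulAut.conj g).toMonoidHom).map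
        X₀.subtype) = B ⊔ B' := by
      rw [Subgroup.map_sup, Subgroup.map_map,
        show X₀.subtype.comp (MulAut.conj g).toMonoidHom =
          (MulAut.conj (g : X)).toMonoidHom.comp X₀.subtype from by ext x; rfl,
        ← Subgroup.map_map, Subgroup.map_subgroupOf_eq_of_le hBX]
    rw [← hmap] at h
    exact h.of_equiv (Subgroup.equivMapOfInjective _ _ X₀.subtype_injective).symm
  have hX₁ : B ⊔ B' ≤ X₀ := sup_le hBX hB'X
  have hBc : ∀ p ∈ B, ∀ q ∈ B, p * q = q * p := fun p hp q hq' => hq.commute hB.1.1 hp hq'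
  have hBc' : ∀ p ∈ B', ∀ q ∈ B', p * q = q * p := fun p hp q hq' => hq.commute hB'.1.1 hp hq'
  have hne : comPart B B' ≠ B := by
    intro he
    refine hnot (IsPGroup.to_sup_of_normal_right' hB.1.1 hB'.1.1 fun b hb => ?_)
    have hb' : b ∈ comPart B B' := he.symm ▸ hb
    exact Subgroup.centralizer_le_normalizer _ hb'.2
  have hne' : comPart B' B ≠ B' := by
    intro he
    refine hnot (IsPGroup.to_sup_of_normal_left' hB.1.1 hB'.1.1 fun b hb => ?_)
    have hb' : b ∈ comPart B' B := he.symm ▸ hb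
    exact Subgroup.centralizer_le_normalizer _ hb'.2
  set R := (rZero B B' : Subgroup V) with hR
  set M := (fixMod B B' B : Subgroup V) with hM
  set M' := (fixMod B B' B' : Subgroup V) with hM'
  have hMR : R ≤ M := fun v hv => ⟨hv.1, fun c hc =>
    div_mem (smul_mem_rZero hBc hBc' (Subgroup.mem_sup_left hc) hv) hv⟩
  have hMR' : R ≤ M' := fun v hv => ⟨hv.1, fun c hc =>
    div_mem (smul_mem_rZero hBc hBc' (Subgroup.mem_sup_right hc) hv) hv⟩
  have hinf : M ⊓ M' = R := le_antisymm
    (fun v hv => mem_rZero_of_fixMod_both hexp hBc hBc' hv.1 hv.2) (le_inf hMR hMR')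
  have hMv : M ≤ vOne B B' := fun v hv => hv.1
  have hMv' : M' ≤ vOne B B' := fun v hv => hv.1
  have hlow : (fixOf B : Subgroup V) ⊓ vOne B B' ≤ M := fun v hv => ⟨hv.2, fun c hc => by
    rw [hv.1 c hc, div_self']; exact one_mem _⟩
  have hlow' : (fixOf B' : Subgroup V) ⊓ vOne B B' ≤ M' := fun v hv => ⟨hv.2, fun c hc => by
    rw [hv.1 c hc, div_self']; exact one_mem _⟩
  have hq₁ : R.relIndex M' ≤ (comPart B B').relIndex B := by
    rw [← hinf, inf_comm, Subgroup.inf_relIndex_left]
    refine (Subgroup.relIndex_le_of_le_right hMv' Subgroup.index_ne_zero_of_finite).trans ?_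
    refine (Subgroup.relIndex_le_of_le_left hlow Subgroup.index_ne_zero_of_finite).trans ?_
    rw [Subgroup.inf_relIndex_right]
    exact relIndex_le_of_minOff hB hne
  have hq₂ : R.relIndex M ≤ (comPart B' B).relIndex B' := by
    rw [← hinf, Subgroup.inf_relIndex_left]
    refine (Subgroup.relIndex_le_of_le_right hMv Subgroup.index_ne_zero_of_finite).trans ?_
    refine (Subgroup.relIndex_le_of_le_left hlow' Subgroup.index_ne_zero_of_finite).trans ?_
    rw [Subgroup.inf_relIndex_right, vOne_swap]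
    exact relIndex_le_of_minOff hB' hne'
  have ih' : ∀ S : Subgroup X, S < B ⊔ B' → ∀ C : Subgroup X, IsMinOff V C → C ≤ S →
      ∃ N : Subgroup X, N ≤ S ∧ IsPGroup 2 N ∧ S ≤ Subgroup.normalizer (N : Set X) ∧ C ≤ N :=
    fun S hS C hC hCS => ih _ (hn ▸ Set.Finite.card_lt_card (Set.toFinite _)
      (hS.trans_le hX₁)) S rfl C hCS hC
  -- a point outside `rZero` fixed modulo `rZero` by `B'`
  obtain ⟨w, hw, hw0⟩ : ∃ w ∈ M', w ∉ R := by
    by_contra hcon
    push Not at hcon
    have hvR : (vOne B B' : Subgroup V) ≤ R := by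
      by_contra hvR
      obtain ⟨w, hw, hw0⟩ := SetLike.not_le_iff_exists.1 hvR
      refine hw0 (hcon w ⟨hw, ?_⟩)
      by_contra hc
      push Not at hc
      obtain ⟨b, hb, hbw⟩ := hc
      refine hbw (hcon _ ⟨div_mem (smul_mem_vOne hBc hBc' (Subgroup.mem_sup_right hb) hw) hw,
        fun c hc => ?_⟩)
      rw [hq B' hB'.1.1 b hb c hc w, div_self']
      exact one_mem _
    refine hnot fun x => ?_
    obtain ⟨k, m, hm, hkm⟩ := Nat.exists_eq_two_pow_mul_odd (orderOf_pos (x : X)).ne'
    refine ⟨k, Subtype.ext ?_⟩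
    show (x : X) ^ 2 ^ k = 1
    set y := (x : X) ^ 2 ^ k with hy
    have hyo : Odd (orderOf y) := by
      rw [hy, orderOf_pow' _ (by positivity), hkm, Nat.gcd_eq_right (dvd_mul_right _ _),
        Nat.mul_div_cancel_left _ (by positivity)]
      exact hm
    have hyX : y ∈ B ⊔ B' := pow_mem x.2 _
    refine eq_of_smul_eq_smul fun v : V => ?_
    rw [one_smul]
    refine odd_pow_fix hyo hexp ((hvR ⟨fun c hc => ?_, fun c hc => ?_⟩).2 y hyX hyo)
    · have hcomm := commute_of_mem_comPart hBc hc hyX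
      have hcv : c • v / v ∈ (vOne B B' : Subgroup V) := by
        refine ⟨fun d hd => hq B hB.1.1 c hc.1 d hd.1 v, fun d hd => ?_⟩
        have hP : IsPGroup 2 ↥(Subgroup.zpowers c ⊔ Subgroup.zpowers d) :=
          IsPGroup.to_sup_of_normal_right' (hB.1.1.to_le (Subgroup.zpowers_le.2 hc.1))
            (hB'.1.1.to_le (Subgroup.zpowers_le.2 hd.1)) (by
              refine Subgroup.zpowers_le.2 (Subgroup.centralizer_le_normalizer _ ?_)
              exact Subgroup.mem_centralizer_iff.2 fun e he => by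
                obtain ⟨j, rfl⟩ := Subgroup.mem_zpowers_iff.1 he
                exact Commute.zpow_left
                  (commute_of_mem_comPart hBc hc (Subgroup.mem_sup_right hd.1)).symm j)
        exact hq _ hP c (Subgroup.mem_sup_left (Subgroup.mem_zpowers c)) d
          (Subgroup.mem_sup_right (Subgroup.mem_zpowers d)) v
      have h := (hvR hcv).2 y hyX hyo
      rw [smul_div', ← mul_smul, ← hcomm, mul_smul] at h
      rw [smul_div', div_eq_div_iff_mul_eq_mul]
      rw [div_eq_div_iff_mul_eq_mul] at h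
      exact h.trans (mul_comm _ _)
    · have hcomm := commute_of_mem_comPart hBc' hc (sup_comm B B' ▸ hyX)
      have hcv : c • v / v ∈ (vOne B B' : Subgroup V) := by
        refine ⟨fun d hd => ?_, fun d hd => hq B' hB'.1.1 c hc.1 d hd.1 v⟩
        have hP : IsPGroup 2 ↥(Subgroup.zpowers c ⊔ Subgroup.zpowers d) :=
          IsPGroup.to_sup_of_normal_right' (hB'.1.1.to_le (Subgroup.zpowers_le.2 hc.1))
            (hB.1.1.to_le (Subgroup.zpowers_le.2 hd.1)) (by
              refine Subgroup.zpowers_le.2 (Subgroup.centralizer_le_normalizer _ ?_)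
              exact Subgroup.mem_centralizer_iff.2 fun e he => by
                obtain ⟨j, rfl⟩ := Subgroup.mem_zpowers_iff.1 he
                exact Commute.zpow_left
                  (commute_of_mem_comPart hBc' hc (Subgroup.mem_sup_right hd.1)).symm j)
        exact hq _ hP c (Subgroup.mem_sup_left (Subgroup.mem_zpowers c)) d
          (Subgroup.mem_sup_right (Subgroup.mem_zpowers d)) v
      have h := (hvR hcv).2 y hyX hyo
      rw [smul_div', ← mul_smul, ← hcomm, mul_smul] at h
      rw [smul_div', div_eq_div_iff_mul_eq_mul]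
      rw [div_eq_div_iff_mul_eq_mul] at h
      exact h.trans (mul_comm _ _)
  obtain ⟨φ, hφ, hker, hran⟩ := exists_disp_hom hq hB.1.1 hB' hBc hBc' hexp
    (fun S hS hS' => ih' S hS B' hB' hS') hw hw0
  obtain ⟨b, hb, hb1⟩ : ∃ b ∈ B, b ∉ comPart B B' :=
    SetLike.not_le_iff_exists.1 fun h => hne (le_antisymm inf_le_left h)
  set u := b • w / w with hu
  have huM : u ∈ M := disp_mem_fixMod hq hB.1.1 hBc hBc' hw.1 hb
  have hu0 : u ∉ R := fun h => hb1 (by
    have : (⟨b, hb⟩ : B) ∈ φ.ker := by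
      rw [MonoidHom.mem_ker, hφ, QuotientGroup.eq_one_iff]; exact h
    rwa [hker] at this)
  obtain ⟨ψ, hψ, hker', hran'⟩ := exists_disp_hom (B := B') (B' := B) hq hB'.1.1 hB hBc' hBc hexp
    (fun S hS hS' => ih' S (sup_comm B B' ▸ hS) B hB hS')
    (w := u) (by rw [← fixMod_swap]; exact huM) (by rw [← rZero_swap]; exact hu0)
  have hc₁ : (comPart B B').relIndex B ≤ R.relIndex M := by
    rw [← fixMod_quot_card hBc B hBc' le_sup_left, Subgroup.relIndex, ← hker, Subgroup.index_ker]
    exact Subgroup.card_le_of_le hran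
  have hc₂ : (comPart B' B).relIndex B' ≤ R.relIndex M' := by
    rw [hR, hM', rZero_swap B B', fixMod_swap B B', ← fixMod_quot_card hBc' B' hBc le_sup_left,
      Subgroup.relIndex, ← hker', Subgroup.index_ker]
    exact Subgroup.card_le_of_le hran'
  have hsurj : ψ.range = (fixMod B' B B' : Subgroup V).map (QuotientGroup.mk' _) := by
    refine Subgroup.eq_of_le_of_card_ge hran' ?_
    have e₂ : (rZero B' B : Subgroup V).relIndex (fixMod B' B B') = R.relIndex M' := by
      rw [hR, hM', rZero_swap B B', fixMod_swap B B']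
    have e₁ : Nat.card ψ.range = (comPart B' B).relIndex B' := by
      rw [← Subgroup.index_ker, hker']; rfl
    rw [fixMod_quot_card hBc' B' hBc le_sup_left, e₂, e₁]
    omega
  obtain ⟨a, ha⟩ : (QuotientGroup.mk w : V ⧸ (rZero B' B : Subgroup V)) ∈ ψ.range := by
    rw [hsurj]
    exact ⟨w, by rw [← fixMod_swap]; exact hw, rfl⟩
  -- `a b` permutes `w, u, u w` cyclically modulo `R`
  let π : V →* V ⧸ R := QuotientGroup.mk' R
  have hπ : ∀ x ∈ B ⊔ B', ∀ {s t : V}, π s = π t → π (x • s) = π (x • t) := by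
    intro x hx s t hst
    rw [QuotientGroup.mk'_apply, QuotientGroup.mk'_apply, QuotientGroup.eq_iff_div_mem] at hst ⊢
    rw [← smul_div']
    exact smul_mem_rZero hBc hBc' hx hst
  have hau : π ((a : X) • u) = π u * π w := by
    have h : π ((a : X) • u / u) = π w := by
      rw [QuotientGroup.mk'_apply, QuotientGroup.mk'_apply, QuotientGroup.eq_iff_div_mem]
      rw [hψ, QuotientGroup.eq_iff_div_mem, ← rZero_swap] at ha
      exact ha
    rw [map_div, div_eq_iff_eq_mul] at h
    rw [h, mul_comm]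
  have haw : π ((a : X) • w) = π w := by
    rw [QuotientGroup.mk'_apply, QuotientGroup.mk'_apply, QuotientGroup.eq_iff_div_mem]
    exact hw.2 _ a.2
  have hbu : π (b • u) = π u := by
    rw [QuotientGroup.mk'_apply, QuotientGroup.mk'_apply, QuotientGroup.eq_iff_div_mem]
    exact huM.2 _ hb
  have hbw : π (b • w) = π u * π w := by
    rw [← map_mul, hu, div_mul_cancel]
  have hexpq : ∀ t : V ⧸ R, t * t = 1 := fun t => by
    induction t using QuotientGroup.induction_on with
    | H t => rw [← QuotientGroup.mk_mul, ← pow_two, hexp]; rfl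
  have habX : (a : X) * b ∈ B ⊔ B' := mul_mem (Subgroup.mem_sup_right a.2) (Subgroup.mem_sup_left hb)
  have hyw : π (((a : X) * b) • w) = π u := by
    rw [mul_smul, hπ _ (Subgroup.mem_sup_right a.2) (t := u * w) (by rw [hbw, map_mul]), smul_mul',
      map_mul, hau, haw, mul_assoc, hexpq, mul_one]
  have hyu : π (((a : X) * b) • u) = π u * π w := by
    rw [mul_smul, hπ _ (Subgroup.mem_sup_right a.2) (t := u) hbu, hau]
  set y := (a : X) * b with hy
  have hy2 : π ((y ^ 2) • w) = π u * π w := by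
    rw [pow_two, mul_smul, hπ y habX (t := u) hyw, hyu]
  have hy3 : π ((y ^ 3) • w) = π w := by
    rw [pow_succ', mul_smul, hπ y habX (t := u * w) (by rw [hy2, map_mul]), smul_mul', map_mul, hyu,
      hyw, mul_comm (π u) (π w), mul_assoc, hexpq, mul_one]
  have hper : ∀ k : ℕ, π ((y ^ (3 * k)) • w) = π w := by
    intro k
    induction k with
    | zero => simp
    | succ k ih =>
      rw [Nat.mul_succ, pow_add, mul_smul, hπ _ (pow_mem habX _) (t := w) hy3, ih]
  have hdvd : 3 ∣ orderOf y := by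
    have h1 : π ((y ^ orderOf y) • w) = π w := by rw [pow_orderOf_eq_one, one_smul]
    rw [← Nat.div_add_mod (orderOf y) 3, add_comm, pow_add, mul_smul,
      hπ _ (pow_mem habX _) (t := w) (hper _)] at h1
    rcases (by omega : orderOf y % 3 = 0 ∨ orderOf y % 3 = 1 ∨ orderOf y % 3 = 2) with h | h | h
    · exact Nat.dvd_of_mod_eq_zero h
    · rw [h, pow_one, hyw] at h1
      exfalso
      rw [QuotientGroup.mk'_apply, QuotientGroup.mk'_apply, QuotientGroup.eq_iff_div_mem] at h1
      refine hw0 (hinf ▸ ⟨?_, hw⟩)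
      have := div_mem huM (hMR h1)
      rwa [div_div_cancel] at this
    · rw [h, hy2, mul_eq_right] at h1
      exact absurd ((QuotientGroup.eq_one_iff _).1 h1) hu0
  exact h3 (hdvd.trans (orderOf_dvd_natCard y))

/-- If some 2-subgroup is an offender, there is a non-trivial normal 2-subgroup. -/
theorem pCore_ne_bot_of_off [FaithfulSMul X V] (hexp : ∀ v : V, v ^ 2 = 1)
    (h3 : ¬ 3 ∣ Nat.card X) (hq : Quad X V) {B : Subgroup X} (hB : IsOff V B) :
    ∃ N : Subgroup X, N.Normal ∧ IsPGroup 2 N ∧ N ≠ ⊥ := by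
  obtain ⟨C, -, hC⟩ := Finite.exists_le_minimal (p := fun C : Subgroup X => IsOff V C) hB
  obtain ⟨N, -, hN2, hNn, hCN⟩ := minOff_le_normal hexp h3 hq _ ⊤ rfl C le_top
    ⟨hC.prop, fun D hD hoff => (hC.not_lt hoff) hD⟩
  exact ⟨N, Subgroup.normalizer_eq_top_iff.1 (top_le_iff.1 hNn), hN2,
    fun h => hC.prop.2.1 (le_bot_iff.1 (h ▸ hCN))⟩

end CfsgLib.FpfSymThree
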