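import Cfsg.Agent.Lib.FpfSymThree.Basic
import Cfsg.Agent.Lib.Solvable.PrimeActionCore
import Cfsg.Prelude.Def_Local

/-!
Solvable groups of order prime to three with an automorphism of order three whose fixed points
have odd order.
-/

set_option autoImplicit false
set_option linter.style.haveILetI false

universe u

namespace CfsgLib.FpfSymThree

open SemidirectProduct CfsgLib.Solvable

variable {G : Type u} [Group G] [Finite G] {φ : MulAut G}

/-- An invariant Sylow subgroup for an odd prime is fixed pointwise. -/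
theorem exists_fixed_sylow (hφ : IsTri φ) (h3 : ¬ 3 ∣ Nat.card G)
    (hodd : ∀ g, φ g = g → Odd (orderOf g)) (Q : Subgroup G) [Q.Normal]
    (hQinv : ∀ g ∈ Q, φ g ∈ Q) (hQ2 : IsPGroup 2 Q)
    (hQc : Subgroup.centralizer (Q : Set G) ≤ Q) {r : ℕ} [hr : Fact r.Prime] (hr2 : r ≠ 2) :
    ∃ R : Sylow r G, ∀ g ∈ (R : Subgroup G), φ g = g := by
  haveI : Fact (Nat.Prime 2) := ⟨Nat.prime_two⟩
  haveI : Fact (Nat.Prime 3) := ⟨Nat.prime_three⟩
  set A := Subgroup.zpowers φ with hA
  have hsolv : Group.IsSolvable A := Group.isSolvable_of_comm fun a b => mul_comm' a b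
  obtain ⟨R, -, hR⟩ := exists_smul_invariant_sylow (A := A) (K := G) (hφ.coprime_card h3)
    (Or.inl hsolv) r (U := ⊥) IsPGroup.of_bot (fun a u hu => by
      rw [Subgroup.mem_bot] at hu
      rw [hu, smul_one]
      exact one_mem _)
  refine ⟨R, fun g hg => ?_⟩
  by_cases hr3 : r = 3
  · subst hr3
    obtain ⟨k, hk⟩ := IsPGroup.iff_orderOf.1 R.isPGroup' ⟨g, hg⟩
    rw [Subgroup.orderOf_mk] at hk
    have h1 : orderOf g = 1 := Nat.eq_one_of_dvd_coprimes
      (((Nat.prime_three.coprime_iff_not_dvd).2 h3).pow_left k) (dvd_of_eq hk)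
      (orderOf_dvd_natCard g)
    rw [orderOf_eq_one_iff.1 h1, map_one]
  haveI := finite_actSemi (A := A) (K := G)
  set a : A := ⟨φ, Subgroup.mem_zpowers φ⟩ with ha
  set x : ActSemi A G := inr a with hxdef
  have hx3 : x ^ 3 = 1 := by
    rw [hxdef, ← map_pow, show a ^ 3 = 1 from Subtype.ext hφ.pow_three, map_one]
  have hinr : ∀ k : G, x * inl k * x⁻¹ = inl (φ k) := fun k => inr_mul_inl_mul_inv a k
  have hnormQ : ∀ k : G, (inl k : ActSemi A G) ∈
      Subgroup.normalizer ((Q.map (inl : G →* ActSemi A G) : Subgroup _) : Set _) := fun k =>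
    Subgroup.le_normalizer_map (inl : G →* ActSemi A G)
      ⟨k, by rw [Subgroup.normalizer_eq_top Q]; trivial, rfl⟩
  have hxQ : x ∈ Subgroup.normalizer ((Q.map (inl : G →* ActSemi A G) : Subgroup _) : Set _) :=
    actTop_le_normalizer_map (fun b d hd => zpowers_apply_mem hQinv b hd) ⟨a, rfl⟩
  have hfix : Q.map (inl : G →* ActSemi A G) ⊓ Subgroup.centralizer ({x} : Set _) = ⊥ := by
    rw [eq_bot_iff]
    rintro _ ⟨⟨q, hq, rfl⟩, hc⟩
    have he : φ q = q := inl_injective (φ := MulDistribMulAction.toMulAut A G) (by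
      rw [← hinr, ← Subgroup.mem_centralizer_singleton_iff.1 hc, mul_inv_cancel_right])
    obtain ⟨k, hk⟩ := IsPGroup.iff_orderOf.1 hQ2 ⟨q, hq⟩
    rw [Subgroup.orderOf_mk] at hk
    have h1 : orderOf q = 1 := by
      rcases Nat.eq_zero_or_pos k with rfl | hkp
      · simpa using hk
      · exfalso
        have := hodd q he
        rw [hk] at this
        exact (Nat.not_even_iff_odd.2 this) ((Nat.even_pow.2 ⟨even_two, hkp.ne'⟩))
    rw [Subgroup.mem_bot, orderOf_eq_one_iff.1 h1, map_one]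
  have key := CfsgLib.Solvable.PrimeAction.commute_of_fpf_pgroup (q := r) (r := 3) (s := 2)
    hr2 hr3 hr2 (by norm_num) (M := Q.map (inl : G →* ActSemi A G))
    (Q := (R : Subgroup G).map (inl : G →* ActSemi A G)) (hQ2.map _) (R.isPGroup'.map _)
    (x := x) (by
      rintro _ ⟨k, hk, rfl⟩
      exact ⟨φ k, hR a k hk, (hinr k).symm⟩) hx3
    (by rintro _ ⟨k, -, rfl⟩; exact hnormQ k) hxQ hfix (inl g) ⟨g, hg, rfl⟩
  rw [hinr, ← map_inv, ← map_mul] at key
  have hc : g⁻¹ * φ g ∈ Q := hQc (Subgroup.mem_centralizer_iff.2 fun k hk =>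
    inl_injective (φ := MulDistribMulAction.toMulAut A G) (by
      rw [map_mul, map_mul (inl : G →* ActSemi A G) (g⁻¹ * φ g)]
      exact Subgroup.mem_centralizer_iff.1 key _ ⟨k, hk, rfl⟩))
  have hR' : g⁻¹ * φ g ∈ (R : Subgroup G) := mul_mem (inv_mem hg) (hR a g hg)
  have hdis := IsPGroup.disjoint_of_ne 2 r (fun h => hr2 h.symm) Q (R : Subgroup G) hQ2 R.isPGroup'
  exact (inv_mul_eq_one.1 (Subgroup.disjoint_def.1 hdis hc hR')).symm

/-- The trivial-core step. -/
theorem core_step [hs : Group.IsSolvable G] (hφ : IsTri φ) (h3 : ¬ 3 ∣ Nat.card G)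
    (hodd : ∀ g, φ g = g → Odd (orderOf g)) (hO : Cfsg.pPrimeCore 2 G = ⊥) :
    ¬ 2 ∣ (Cfsg.pCore 2 G).index ∧ ∀ g, g⁻¹ * φ g ∈ Cfsg.pCore 2 G := by
  haveI : Fact (Nat.Prime 2) := ⟨Nat.prime_two⟩
  haveI := pCore_normal 2 G
  set Q := Cfsg.pCore 2 G with hQdef
  have hFQ : Cfsg.fittingSubgroup G ≤ Q := by
    rw [fittingSubgroup_eq_iSup_pCore]
    refine iSup_le fun q => ?_
    haveI : Fact (q : ℕ).Prime := ⟨(Nat.mem_primeFactors.1 q.2).1⟩
    by_cases hq : (q : ℕ) = 2
    · rw [hq]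
    · refine le_trans (le_pPrimeCore (pCore_normal _ G) ?_) (hO.le.trans bot_le)
      obtain ⟨n, hn⟩ := card_pCore (p := (q : ℕ)) (G := G)
      rw [hn]
      exact ((Nat.coprime_primes (Fact.out : (q : ℕ).Prime) Nat.prime_two).2 hq).pow_left n
  have hQc : Subgroup.centralizer (Q : Set G) ≤ Q :=
    le_trans (Subgroup.centralizer_le hFQ) (le_trans centralizer_fittingSubgroup_le hFQ)
  have hQinv := pCore_apply_mem 2 φ
  set ψ := quotAut φ Q hQinv with hψ
  have hψ3 : IsTri ψ := quotAut_isTri hφ Q hQinv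
  have h3q := not_three_dvd_quot h3 Q
  haveI : Group.IsSolvable (G ⧸ Q) :=
    Group.isSolvable_of_surjective (QuotientGroup.mk'_surjective Q)
  have hF : ∀ y ∈ Cfsg.fittingSubgroup (G ⧸ Q), ψ y = y := by
    suffices h : Cfsg.fittingSubgroup (G ⧸ Q) ≤ fixSub ψ from fun y hy => h hy
    rw [fittingSubgroup_eq_iSup_pCore]
    refine iSup_le fun r => ?_
    haveI : Fact (r : ℕ).Prime := ⟨(Nat.mem_primeFactors.1 r.2).1⟩
    by_cases hr : (r : ℕ) = 2
    · rw [hr, pCore_quotient_eq_bot Q rfl]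
      exact bot_le
    · obtain ⟨R, hR⟩ := exists_fixed_sylow hφ h3 hodd Q hQinv (pCore_isPGroup 2 G) hQc hr
      refine le_trans (pCore_le_sylow (R.mapSurjective (QuotientGroup.mk'_surjective Q))) ?_
      rw [Sylow.coe_mapSurjective]
      rintro _ ⟨g, hg, rfl⟩
      show ψ _ = _
      rw [QuotientGroup.mk'_apply, hψ, quotAut_mk, hR g hg]
  haveI := fittingSubgroup_normal (G ⧸ Q)
  have htriv : ∀ y, ψ y = y := by
    intro y
    set c := y⁻¹ * ψ y with hc
    have hcF : c ∈ Cfsg.fittingSubgroup (G ⧸ Q) := by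
      refine centralizer_fittingSubgroup_le (Subgroup.mem_centralizer_iff.2 fun f hf => ?_)
      have h1 := hF _ ((fittingSubgroup_normal (G ⧸ Q)).conj_mem f hf y)
      rw [map_mul, map_mul, map_inv, hF f hf] at h1
      calc f * c = y⁻¹ * (y * f * y⁻¹) * ψ y := by rw [hc]; group
        _ = y⁻¹ * (ψ y * f * (ψ y)⁻¹) * ψ y := by rw [h1]
        _ = c * f := by rw [hc]; group
    have hyc : ψ y = y * c := by rw [hc]; group
    have hcc : ψ c = c := hF c hcF
    have h := hψ3 y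
    simp only [hyc, map_mul, hcc, mul_assoc, mul_eq_left] at h
    have h1 : c ^ 3 = 1 := by rw [← h, pow_three]
    have h2 : orderOf c = 1 := Nat.eq_one_of_dvd_coprimes
      ((Nat.prime_three.coprime_iff_not_dvd).2 h3q) (orderOf_dvd_of_pow_eq_one h1)
      (orderOf_dvd_natCard c)
    rw [hyc, orderOf_eq_one_iff.1 h2, mul_one]
  refine ⟨fun h2 => ?_, fun g => ?_⟩
  · obtain ⟨y, hy⟩ := exists_prime_orderOf_dvd_card' 2 h2
    have := quot_fix_odd hφ h3 hodd Q hQinv y (htriv y)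
    rw [hy] at this
    exact (Nat.not_even_iff_odd.2 this) even_two
  · have := htriv (g : G ⧸ Q)
    rw [hψ, quotAut_mk, eq_comm, QuotientGroup.eq] at this
    exact this

theorem pPrimePCore_normal (p : ℕ) (G : Type u) [Group G] : (Cfsg.pPrimePCore p G).Normal := by
  haveI := pCore_normal p (G ⧸ Cfsg.pPrimeCore p G)
  exact Subgroup.Normal.comap inferInstance _

theorem pPrimePCore_apply_mem (p : ℕ) (φ : MulAut G) :
    ∀ g ∈ Cfsg.pPrimePCore p G, φ g ∈ Cfsg.pPrimePCore p G := by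
  intro g hg
  have := pCore_apply_mem p (quotAut φ (Cfsg.pPrimeCore p G) (pPrimeCore_apply_mem p φ)) _ hg
  rwa [QuotientGroup.mk'_apply, quotAut_mk] at this

/-- In a solvable group of this kind the quotient by the odd core has a normal Sylow subgroup. -/
theorem solvable_case [hs : Group.IsSolvable G] (hφ : IsTri φ) (h3 : ¬ 3 ∣ Nat.card G)
    (hodd : ∀ g, φ g = g → Odd (orderOf g)) :
    ¬ 2 ∣ (Cfsg.pPrimePCore 2 G).index ∧ Cfsg.pPrimePCore 2 G ⊔ fixSub φ = ⊤ := by
  set O := Cfsg.pPrimeCore 2 G with hOdef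
  have hOinv := pPrimeCore_apply_mem 2 φ
  haveI : Group.IsSolvable (G ⧸ O) :=
    Group.isSolvable_of_surjective (QuotientGroup.mk'_surjective O)
  obtain ⟨h1, h2⟩ := core_step (quotAut_isTri hφ O hOinv) (not_three_dvd_quot h3 O)
    (fun y hy => quot_fix_odd hφ h3 hodd O hOinv y hy) (pPrimeCore_quotient_eq_bot O hOdef)
  refine ⟨?_, ?_⟩
  · rwa [Cfsg.pPrimePCore, Subgroup.index_comap_of_surjective _ (QuotientGroup.mk'_surjective _)]
  rw [eq_top_iff]
  intro g _
  have hg : g⁻¹ * φ g ∈ Cfsg.pPrimePCore 2 G := by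
    show QuotientGroup.mk' O (g⁻¹ * φ g) ∈ Cfsg.pCore 2 (G ⧸ O)
    have := h2 (g : G ⧸ O)
    rw [quotAut_mk] at this
    rw [map_mul, map_inv]
    exact this
  obtain ⟨d, hd, hfix⟩ := exists_fixed_coset hφ h3 (pPrimePCore_apply_mem 2 φ) hg
  rw [show g = g * d * d⁻¹ by group]
  exact mul_mem (Subgroup.mem_sup_right hfix) (Subgroup.mem_sup_left (inv_mem hd))

/-- With a normal Sylow subgroup modulo the odd core, the core and a Sylow normalizer generate. -/
theorem core_sup_normalizer_eq_top (h : ¬ 2 ∣ (Cfsg.pPrimePCore 2 G).index) (S : Sylow 2 G) :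
    Cfsg.pPrimeCore 2 G ⊔ Subgroup.normalizer ((S : Subgroup G) : Set G) = ⊤ := by
  haveI : Fact (Nat.Prime 2) := ⟨Nat.prime_two⟩
  set O := Cfsg.pPrimeCore 2 G with hOdef
  set f := QuotientGroup.mk' O
  have hf : Function.Surjective f := QuotientGroup.mk'_surjective O
  rw [Cfsg.pPrimePCore, Subgroup.index_comap_of_surjective _ hf] at h
  set P : Sylow 2 (G ⧸ O) := (pCore_isPGroup 2 (G ⧸ O)).toSylow h with hP
  haveI := pCore_normal 2 (G ⧸ O)
  have hPn : (P : Subgroup (G ⧸ O)).Normal := by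
    rw [hP, IsPGroup.toSylow_coe]
    infer_instance
  haveI : Subsingleton (Sylow 2 (G ⧸ O)) := by
    letI := Sylow.unique_of_normal P hPn
    infer_instance
  have hSP : (S : Subgroup G).map f = Cfsg.pCore 2 (G ⧸ O) := by
    rw [← Sylow.coe_mapSurjective hf S, Subsingleton.elim (S.mapSurjective hf) P, hP,
      IsPGroup.toSylow_coe]
  have hK : Cfsg.pPrimePCore 2 G = (S : Subgroup G) ⊔ O := by
    rw [Cfsg.pPrimePCore, ← hSP, Subgroup.comap_map_eq, QuotientGroup.ker_mk']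
  haveI := pPrimePCore_normal 2 G
  have hSK : (S : Subgroup G) ≤ Cfsg.pPrimePCore 2 G := hK ▸ le_sup_left
  have := Sylow.normalizer_sup_eq_top' S (N := Cfsg.pPrimePCore 2 G) hSK
  have hle : (S : Subgroup G) ≤ Subgroup.normalizer ((S : Subgroup G) : Set G) :=
    Subgroup.le_normalizer
  rw [eq_top_iff]
  refine this.ge.trans (sup_le le_sup_right ?_)
  rw [hK]
  exact sup_le (hle.trans le_sup_right) le_sup_left

end CfsgLib.FpfSymThree
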