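import Cfsg.Agent.Lib.FpfSymThree.Main
import Mathlib.GroupTheory.Perm.Fin

/-!
Fixed-point-free groups of automorphisms isomorphic to the symmetric group of degree three.
-/

set_option autoImplicit false
set_option linter.style.haveILetI false

universe u

namespace CfsgLib.FpfSymThree

variable {G : Type u} [Group G] [Finite G]

theorem exists_inverting (Sig : Subgroup (MulAut G))
    (hS3 : Nonempty (↥Sig ≃* Equiv.Perm (Fin 3))) {σ : MulAut G} (hσ : σ ∈ Sig)
    (hord : orderOf σ = 3) :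
    ∃ τ ∈ Sig, τ * τ = 1 ∧ τ * σ = σ⁻¹ * τ ∧
      ∀ ρ ∈ Sig, ∃ i j : ℕ, ρ = σ ^ i * τ ^ j := by
  obtain ⟨e⟩ := hS3
  have key : ∀ p : Equiv.Perm (Fin 3), p ^ 3 = 1 → p ≠ 1 →
      ∃ q : Equiv.Perm (Fin 3), q * q = 1 ∧ q * p = p⁻¹ * q ∧
        ∀ r : Equiv.Perm (Fin 3), ∃ i : Fin 3, ∃ j : Fin 2, r = p ^ (i : ℕ) * q ^ (j : ℕ) := by
    decide
  set s : Sig := ⟨σ, hσ⟩ with hs
  have hs1 : e s ≠ 1 := fun h => by
    have : s = 1 := e.injective (h.trans (map_one e).symm)
    have h1 : σ = 1 := congrArg Subtype.val this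
    rw [h1, orderOf_one] at hord
    norm_num at hord
  have hs3 : (e s) ^ 3 = 1 := by
    rw [← map_pow, show s ^ 3 = 1 from Subtype.ext (show σ ^ 3 = 1 by rw [← hord, pow_orderOf_eq_one]),
      map_one]
  obtain ⟨q, hq2, hqp, hall⟩ := key (e s) hs3 hs1
  refine ⟨(e.symm q : Sig), (e.symm q).2, ?_, ?_, fun ρ hρ => ?_⟩
  · exact congrArg Subtype.val (show e.symm q * e.symm q = 1 from by
      rw [← map_mul, hq2, map_one])
  · exact congrArg Subtype.val (show e.symm q * s = s⁻¹ * e.symm q from e.injective (by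
      rw [map_mul, map_mul, map_inv, e.apply_symm_apply, hqp]))
  · obtain ⟨i, j, hij⟩ := hall (e ⟨ρ, hρ⟩)
    refine ⟨i, j, congrArg Subtype.val (show (⟨ρ, hρ⟩ : Sig) = s ^ (i : ℕ) * (e.symm q) ^ (j : ℕ)
      from e.injective ?_)⟩
    rw [map_mul, map_pow, map_pow, e.apply_symm_apply, hij]

/-- The theorem, from the solvability of groups of odd order. -/
theorem solvable_of_fpf_symThree_of_oddOrder
    (hFT : ∀ (H : Type u) [Group H] [Finite H], Odd (Nat.card H) → Group.IsSolvable H)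
    (h3 : ¬ 3 ∣ Nat.card G) (Sig : Subgroup (MulAut G))
    (hS3 : Nonempty (↥Sig ≃* Equiv.Perm (Fin 3)))
    (hfpf : ∀ g : G, (∀ σ ∈ Sig, σ g = g) → g = 1) :
    Group.IsSolvable G ∧ ¬ 2 ∣ (Cfsg.pPrimePCore 2 G).index ∧ ∀ σ ∈ Sig, orderOf σ = 3 →
      Cfsg.pPrimePCore 2 G ⊔ Subgroup.closure {g : G | σ g = g} = ⊤ := by
  have hmain : ∀ σ ∈ Sig, orderOf σ = 3 → Group.IsSolvable G ∧
      ¬ 2 ∣ (Cfsg.pPrimePCore 2 G).index ∧
      Cfsg.pPrimePCore 2 G ⊔ Subgroup.closure {g : G | σ g = g} = ⊤ := by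
    intro σ hσ hord
    obtain ⟨τ, -, hττ, hτσ, hgen⟩ := exists_inverting Sig hS3 hσ hord
    have hσ3 : σ ^ 3 = 1 := by rw [← hord, pow_orderOf_eq_one]
    have htri : IsTri σ := fun g => by
      have h := DFunLike.congr_fun hσ3 g
      exact h
    set C := fixSub σ with hC
    have hτC : ∀ g ∈ C, τ g ∈ C := fun g hg => by
      have h : τ (σ g) = σ⁻¹ (τ g) := DFunLike.congr_fun hτσ g
      rw [show σ g = g from hg] at h
      show σ (τ g) = τ g
      calc σ (τ g) = σ (σ⁻¹ (τ g)) := by rw [← h]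
        _ = τ g := σ.apply_symm_apply _
    have hτfix : ∀ g ∈ C, τ g = g → g = 1 := fun g hg ht => hfpf g fun ρ hρ => by
      obtain ⟨i, j, rfl⟩ := hgen ρ hρ
      have hpow : ∀ (e : MulAut G), e g = g → ∀ n : ℕ, (e ^ n) g = g := by
        intro e he n
        induction n with
        | zero => rfl
        | succ n ih =>
          rw [pow_succ]
          show (e ^ n) (e g) = g
          rw [he, ih]
      show (σ ^ i) ((τ ^ j) g) = g
      rw [hpow τ ht j, hpow σ hg i]
    set τC : MulAut C := resAut τ C hτC with hτCdef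
    have hττ' : ∀ g : G, τ (τ g) = g := fun g => DFunLike.congr_fun hττ g
    have hfree : MonoidHom.FixedPointFree (τC : C → C) := fun x hx =>
      Subtype.ext (hτfix x x.2 (congrArg Subtype.val hx))
    have hinvol : Function.Involutive (τC : C → C) := fun x => Subtype.ext (hττ' x)
    have hcomm : ∀ a b, σ a = a → σ b = b → a * b = b * a := fun a b ha hb =>
      congrArg Subtype.val (MonoidHom.FixedPointFree.commute_all_of_involutive
        (φ := τC) hfree hinvol ⟨a, ha⟩ ⟨b, hb⟩).eq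
    have hodd : ∀ g, σ g = g → Odd (orderOf g) := fun g hg => by
      rw [← Subgroup.orderOf_mk g (show g ∈ C from hg)]
      exact MonoidHom.FixedPointFree.odd_orderOf_of_involutive (φ := τC) hfree hinvol _
    have hsolv : Group.IsSolvable G :=
      isSolvable_of_fix hFT _ G rfl σ htri h3 hodd hcomm
    haveI := hsolv
    obtain ⟨h1, h2⟩ := solvable_case htri h3 hodd
    refine ⟨hsolv, h1, ?_⟩
    rwa [show Subgroup.closure {g : G | σ g = g} = fixSub σ from Subgroup.closure_eq (fixSub σ)]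
  obtain ⟨e⟩ := hS3
  set σ₀ : MulAut G := Subgroup.subtype Sig (e.symm (finRotate 3)) with hσ₀
  have hord : orderOf σ₀ = 3 := by
    haveI : Fact (Nat.Prime 3) := ⟨Nat.prime_three⟩
    rw [hσ₀, Subgroup.coe_subtype, Subgroup.orderOf_coe, e.symm.orderOf_eq]
    exact orderOf_eq_prime (by decide) (by decide)
  obtain ⟨hs, hi, -⟩ := hmain σ₀ (e.symm (finRotate 3)).2 hord
  exact ⟨hs, hi, fun σ hσ ho => (hmain σ hσ ho).2.2⟩

end CfsgLib.FpfSymThree
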